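/-
A four-dimensional quadratic space in odd characteristic: vectors and Eichler transformations.
-/
import Cfsg.Agent.Lib.Classical.OrthogonalGroup
import Cfsg.Agent.Lib.Classical.LinMaximal

set_option autoImplicit false
set_option linter.unusedSectionVars false
set_option linter.style.haveILetI false

namespace Cfsg.Agent.Classical.OSimFour

open Matrix Cfsg.Geo
open Cfsg.Agent.Classical

universe u

variable {ι : Type} [Fintype ι] [DecidableEq ι] {F : Type u} [Field F] {Q : (ι → F) → F}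

/-- The polar form. -/
local notation "⟪" x ", " y "⟫" => QuadraticMap.polar Q x y

/-- A non-degenerate quadratic form in odd characteristic and dimension four. -/
structure Data (Q : (ι → F) → F) : Prop where
  hQ : IsNondegenerateQuadraticForm Q
  h2 : (2 : F) ≠ 0
  hn : Fintype.card ι = 4

variable (Δ : Data Q)

include Δ

theorem symm (x y : ι → F) : ⟪x, y⟫ = ⟪y, x⟫ := QuadraticMap.polar_comm _ _ _

theorem add_left (x y z : ι → F) : ⟪x + y, z⟫ = ⟪x, z⟫ + ⟪y, z⟫ := Δ.hQ.polar_bilinear.add_left x y z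

theorem smul_left (c : F) (x z : ι → F) : ⟪c • x, z⟫ = c * ⟪x, z⟫ := Δ.hQ.polar_bilinear.smul_left c x z

theorem add_right (x y z : ι → F) : ⟪x, y + z⟫ = ⟪x, y⟫ + ⟪x, z⟫ := Δ.hQ.polar_bilinear.add_right x y z

theorem smul_right (c : F) (x z : ι → F) : ⟪x, c • z⟫ = c * ⟪x, z⟫ := Δ.hQ.polar_bilinear.smul_right c x z

theorem zero_left (z : ι → F) : ⟪0, z⟫ = 0 := by rw [← zero_smul F (0 : ι → F), smul_left Δ, zero_mul]

theorem zero_right (z : ι → F) : ⟪z, 0⟫ = 0 := by rw [← zero_smul F (0 : ι → F), smul_right Δ, zero_mul]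

theorem neg_left (x z : ι → F) : ⟪-x, z⟫ = -⟪x, z⟫ := by rw [← neg_one_smul F x, smul_left Δ, neg_one_mul]

theorem neg_right (x z : ι → F) : ⟪x, -z⟫ = -⟪x, z⟫ := by rw [← neg_one_smul F z, smul_right Δ, neg_one_mul]

theorem sub_left (x y z : ι → F) : ⟪x - y, z⟫ = ⟪x, z⟫ - ⟪y, z⟫ := by
  rw [sub_eq_add_neg, add_left Δ, neg_left Δ, sub_eq_add_neg]

theorem sub_right (x y z : ι → F) : ⟪x, y - z⟫ = ⟪x, y⟫ - ⟪x, z⟫ := by
  rw [sub_eq_add_neg, add_right Δ, neg_right Δ, sub_eq_add_neg]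

theorem quad_sum (x y : ι → F) : Q (x + y) = Q x + Q y + ⟪x, y⟫ := quad_add x y

theorem quad_smul (c : F) (x : ι → F) : Q (c • x) = c ^ 2 * Q x := Δ.hQ.smul c x

theorem self_eq (x : ι → F) : ⟪x, x⟫ = 2 * Q x := polar_self_eq Δ.hQ x

theorem self_zero {x : ι → F} (h : Q x = 0) : ⟪x, x⟫ = 0 := by rw [self_eq Δ, h, mul_zero]

theorem quad_zero' : Q 0 = 0 := quad_zero Δ.hQ

theorem finrank_space : Module.finrank F (ι → F) = Fintype.card ι := Module.finrank_fintype_fun_eq_card F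

/-- The form as a linear equivalence with the dual. -/
theorem exists_toDual : ∃ L : (ι → F) →ₗ[F] Module.Dual F (ι → F),
    (∀ x y, L x y = ⟪x, y⟫) ∧ Function.Bijective L := by
  refine ⟨LinearMap.mk₂ F (QuadraticMap.polar Q) (add_left Δ) (smul_left Δ) (add_right Δ) (smul_right Δ),
    fun x y => rfl, ?_⟩
  have hinj : Function.Injective
      (LinearMap.mk₂ F (QuadraticMap.polar Q) (add_left Δ) (smul_left Δ) (add_right Δ) (smul_right Δ)) := by
    rw [← LinearMap.ker_eq_bot, LinearMap.ker_eq_bot']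
    intro v hv
    by_contra hv0
    obtain ⟨x, hx⟩ := (Δ.hQ.nondegenerate v hv0).1
    apply hx
    have h := LinearMap.congr_fun hv x
    rw [symm Δ]
    exact h
  exact ⟨hinj, (LinearMap.injective_iff_surjective_of_finrank_eq_finrank
    (Subspace.dual_finrank_eq).symm).mp hinj⟩

theorem eq_zero_of_perp {v : ι → F} (h : ∀ x, ⟪x, v⟫ = 0) : v = 0 := by
  by_contra hv
  obtain ⟨x, hx⟩ := (Δ.hQ.nondegenerate v hv).1
  exact hx (h x)

theorem eq_of_pairing {v w : ι → F} (h : ∀ x, ⟪x, v⟫ = ⟪x, w⟫) : v = w := by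
  refine sub_eq_zero.mp (eq_zero_of_perp Δ fun x => ?_)
  rw [sub_right Δ, h, sub_self]

/-- Every functional is given by a vector. -/
theorem exists_rep (φ : (ι → F) →ₗ[F] F) : ∃ a, ∀ x, ⟪x, a⟫ = φ x := by
  obtain ⟨L, hL, hb⟩ := exists_toDual Δ
  obtain ⟨a, ha⟩ := hb.2 φ
  exact ⟨a, fun x => by rw [symm Δ, ← hL, ha]⟩

/-- A vector outside a span is separated from it. -/
theorem exists_sep {k : ℕ} {s : Fin k → ι → F} {a : ι → F} (ha : a ∉ Submodule.span F (Set.range s)) :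
    ∃ x, (∀ i, ⟪x, s i⟫ = 0) ∧ ⟪x, a⟫ = 1 := by
  obtain ⟨L, hL, hb⟩ := exists_toDual Δ
  obtain ⟨φ, hφ, hH⟩ := Submodule.exists_dual_map_eq_bot_of_notMem ha inferInstance
  obtain ⟨x, hx⟩ := hb.2 ((φ a)⁻¹ • φ)
  refine ⟨x, fun i => ?_, ?_⟩
  · have h : φ (s i) ∈ (Submodule.span F (Set.range s)).map φ :=
      Submodule.mem_map_of_mem (Submodule.subset_span ⟨i, rfl⟩)
    rw [hH, Submodule.mem_bot] at h
    rw [← hL, hx, LinearMap.smul_apply, h, smul_zero]
  · rw [← hL, hx, LinearMap.smul_apply, smul_eq_mul, inv_mul_cancel₀ hφ]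

/-- The subspace orthogonal to a few vectors is large. -/
theorem exists_perpSpace {k : ℕ} (s : Fin k → ι → F) :
    ∃ U : Submodule F (ι → F), (∀ x ∈ U, ∀ i, ⟪x, s i⟫ = 0) ∧ Fintype.card ι ≤ Module.finrank F U + k := by
  let M : (ι → F) →ₗ[F] (Fin k → F) :=
    { toFun := fun x i => ⟪x, s i⟫
      map_add' := fun x y => funext fun i => add_left Δ x y (s i)
      map_smul' := fun c x => funext fun i => smul_left Δ c x (s i) }
  refine ⟨LinearMap.ker M, fun x hx i => ?_, ?_⟩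
  · exact congrFun (LinearMap.mem_ker.mp hx) i
  · have h := LinearMap.finrank_range_add_finrank_ker M
    have h' := Submodule.finrank_le (LinearMap.range M)
    rw [Module.finrank_fin_fun] at h'
    rw [finrank_space Δ] at h
    omega

/-- A vector orthogonal to a few vectors, outside the span of a few others. -/
theorem exists_perp {k l : ℕ} (s : Fin k → ι → F) (t : Fin l → ι → F) (h : k + l < Fintype.card ι) :
    ∃ a, (∀ i, ⟪a, s i⟫ = 0) ∧ a ∉ Submodule.span F (Set.range t) := by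
  obtain ⟨U, hU, hd⟩ := exists_perpSpace Δ s
  by_contra hc
  push Not at hc
  have hle : U ≤ Submodule.span F (Set.range t) := fun a ha => hc a (hU a ha)
  have h1 := Submodule.finrank_mono hle
  have h2 : Module.finrank F (Submodule.span F (Set.range t)) ≤ Fintype.card (Fin l) := finrank_range_le_card t
  rw [Fintype.card_fin] at h2
  omega

/-- An anisotropic vector orthogonal to a few vectors. -/
theorem exists_aniso {k : ℕ} (s : Fin k → ι → F) (h : 2 * k < Fintype.card ι) :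
    ∃ d, Q d ≠ 0 ∧ ∀ i, ⟪d, s i⟫ = 0 := by
  obtain ⟨U, hU, hd⟩ := exists_perpSpace Δ s
  obtain ⟨L, hL, hb⟩ := exists_toDual Δ
  by_contra hc
  have hQ0 : ∀ x ∈ U, Q x = 0 := fun x hx => by
    by_contra hne
    exact hc ⟨x, hne, hU x hx⟩
  have hle : U.map L ≤ U.dualAnnihilator := by
    rintro _ ⟨x, hx, rfl⟩
    rw [Submodule.mem_dualAnnihilator]
    intro y hy
    have := quad_sum Δ x y
    rw [hQ0 x hx, hQ0 y hy, hQ0 _ (add_mem hx hy), zero_add, zero_add] at this
    rw [hL, this.symm]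
  have h1 := Submodule.finrank_mono hle
  rw [← (Submodule.equivMapOfInjective L hb.1 U).finrank_eq] at h1
  have h2 := Subspace.finrank_add_finrank_dualAnnihilator_eq U
  rw [finrank_space Δ] at h2
  omega

/-- An anisotropic vector orthogonal to an anisotropic one and a few others. -/
theorem exists_aniso_cons {k : ℕ} {e : ι → F} (he : Q e ≠ 0) (s : Fin k → ι → F) (h : 2 * (k + 1) ≤ Fintype.card ι) :
    ∃ d, Q d ≠ 0 ∧ ⟪d, e⟫ = 0 ∧ ∀ i, ⟪d, s i⟫ = 0 := by
  obtain ⟨U, hU, hd⟩ := exists_perpSpace Δ (Fin.cons e s : Fin (k + 1) → ι → F)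
  obtain ⟨L, hL, hb⟩ := exists_toDual Δ
  by_contra hc
  have hQ0 : ∀ x ∈ U, Q x = 0 := fun x hx => by
    by_contra hne
    exact hc ⟨x, hne, by simpa using hU x hx 0, fun i => by simpa using hU x hx i.succ⟩
  have hle : U.map L ≤ U.dualAnnihilator := by
    rintro _ ⟨x, hx, rfl⟩
    rw [Submodule.mem_dualAnnihilator]
    intro y hy
    have := quad_sum Δ x y
    rw [hQ0 x hx, hQ0 y hy, hQ0 _ (add_mem hx hy), zero_add, zero_add] at this
    rw [hL, this.symm]
  have hLe : L e ∈ U.dualAnnihilator := by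
    rw [Submodule.mem_dualAnnihilator]
    intro y hy
    rw [hL, symm Δ]
    simpa using hU y hy 0
  have hne : L e ∉ U.map L := by
    rintro ⟨x, hx, hxe⟩
    exact he (hb.1 hxe ▸ hQ0 x hx)
  have h1 := Submodule.finrank_lt_finrank_of_lt (lt_of_le_of_ne hle fun e' => hne (e' ▸ hLe))
  rw [← (Submodule.equivMapOfInjective L hb.1 U).finrank_eq] at h1
  have h2 := Subspace.finrank_add_finrank_dualAnnihilator_eq U
  rw [finrank_space Δ] at h2
  omega

variable [Fintype F]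

/-- A reflection. -/
theorem exists_refl {p : ι → F} (hp : Q p ≠ 0) :
    ∃ g : GL ι F, (g : Matrix ι ι F).det = -1 ∧ (∀ x, (g : Matrix ι ι F) *ᵥ x = x - ((Q p)⁻¹ * ⟪x, p⟫) • p) ∧
      ∀ x, Q ((g : Matrix ι ι F) *ᵥ x) = Q x := by
  obtain ⟨φ, hφ⟩ : ∃ φ : ι → F, φ = fun i => -(Q p)⁻¹ * ⟪Pi.single i 1, p⟫ := ⟨_, rfl⟩
  have hw : ∀ x, -(Q p)⁻¹ * ⟪x, p⟫ = x ⬝ᵥ φ := fun x => by
    let L : (ι → F) →ₗ[F] F :=
      { toFun := fun y => -(Q p)⁻¹ * ⟪y, p⟫
        map_add' := fun y z => by rw [add_left Δ, mul_add]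
        map_smul' := fun c y => by rw [smul_left Δ, RingHom.id_apply, smul_eq_mul]; ring }
    change L x = _
    rw [pi_eq_sum_univ' x, map_sum]
    simp only [map_smul, dotProduct, Finset.sum_apply, Pi.smul_apply, smul_eq_mul, hφ, L, LinearMap.coe_mk,
      AddHom.coe_mk]
    simp [Pi.single_apply]
  let M : Matrix ι ι F := 1 + Matrix.replicateCol Unit p * Matrix.replicateRow Unit φ
  have hd : M.det = -1 := by
    rw [Matrix.det_one_add_replicateCol_mul_replicateRow, dotProduct_comm, ← hw, self_eq Δ]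
    field_simp
    norm_num
  have hx : ∀ x, M *ᵥ x = x - ((Q p)⁻¹ * ⟪x, p⟫) • p := fun x => by
    rw [sub_eq_add_neg, ← neg_smul, ← neg_mul, hw]
    simp only [M]
    rw [Matrix.add_mulVec, Matrix.one_mulVec, ← Matrix.mulVec_mulVec]
    congr 1
    funext i
    simp [Matrix.mulVec, dotProduct, Matrix.replicateCol_apply, Matrix.replicateRow_apply, Finset.mul_sum,
      Finset.sum_mul, mul_comm, mul_left_comm]
  refine ⟨Matrix.GeneralLinearGroup.mkOfDetNeZero M (by rw [hd]; simp), by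
    rw [Matrix.GeneralLinearGroup.val_mkOfDetNeZero]; exact hd, fun x => ?_, fun x => ?_⟩ <;>
    rw [Matrix.GeneralLinearGroup.val_mkOfDetNeZero, hx]
  rw [sub_eq_add_neg, ← neg_smul, quad_sum Δ, quad_smul Δ, smul_right Δ]
  field_simp
  ring

theorem mem_span1 {a x : ι → F} (h : x ∈ Submodule.span F (Set.range ![a])) : ∃ c : F, x = c • a := by
  obtain ⟨c, hc⟩ := (Submodule.mem_span_range_iff_exists_fun F).mp h
  exact ⟨c 0, by rw [← hc]; simp [Fin.sum_univ_succ]⟩

theorem mem_span2 {a b x : ι → F} (h : x ∈ Submodule.span F (Set.range ![a, b])) :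
    ∃ c d : F, x = c • a + d • b := by
  obtain ⟨c, hc⟩ := (Submodule.mem_span_range_iff_exists_fun F).mp h
  exact ⟨c 0, c 1, by rw [← hc]; simp [Fin.sum_univ_succ]⟩

theorem mem_span3 {a b e x : ι → F} (h : x ∈ Submodule.span F (Set.range ![a, b, e])) :
    ∃ c d k : F, x = c • a + d • b + k • e := by
  obtain ⟨c, hc⟩ := (Submodule.mem_span_range_iff_exists_fun F).mp h
  exact ⟨c 0, c 1, c 2, by rw [← hc]; simp [Fin.sum_univ_succ, add_assoc]⟩

/-- An Eichler transformation as a special isometry. -/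
theorem exists_eichler_one {u w : ι → F} (hu : Q u = 0) (huw : ⟪u, w⟫ = 0) :
    ∃ g ∈ quadSimilarityGroup Q ⊓ specialLinear ι F,
      (∀ x, (g : Matrix ι ι F) *ᵥ x = x + ⟪x, u⟫ • w - (⟪x, w⟫ + Q w * ⟪x, u⟫) • u) ∧
      ∀ x y, ⟪(g : Matrix ι ι F) *ᵥ x, (g : Matrix ι ι F) *ᵥ y⟫ = ⟪x, y⟫ := by
  have hh : ⟪u, (2 : F)⁻¹ • w⟫ = 0 := by rw [smul_right Δ, huw, mul_zero]
  obtain ⟨e, he, hev⟩ := exists_eichler Δ.hQ hu hh
  have hev2 : ∀ x, ((e * e : GL ι F) : Matrix ι ι F) *ᵥ x = eichler Q u w x := fun x => by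
    rw [gl_mul_mulVec, hev, hev, eichler_comp Δ.hQ hu hh hh, ← add_smul]
    have : (2 : F)⁻¹ + 2⁻¹ = 1 := by rw [← two_mul, mul_inv_cancel₀ Δ.h2]
    rw [this, one_smul]
  have hiso : ∀ x, Q (((e * e : GL ι F) : Matrix ι ι F) *ᵥ x) = Q x :=
    fun x => by rw [hev2, eichler_isometry Δ.hQ hu huw]
  refine ⟨e * e, ⟨⟨1, fun v => by rw [hiso, Units.val_one, one_mul]⟩, ?_⟩, fun x => hev2 x,
    fun x y => by simp only [QuadraticMap.polar, ← Matrix.mulVec_add, hiso]⟩
  have hb := semiForm_of_bilinear Δ.hQ.polar_bilinear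
  have hpres : (fun x y => ⟪(e : Matrix ι ι F) *ᵥ x, (e : Matrix ι ι F) *ᵥ y⟫) = QuadraticMap.polar Q := by
    funext x y
    simp only [QuadraticMap.polar, ← Matrix.mulVec_add, mem_isometryGroup_iff.mp he]
  have hg := gram_comp (RingEquiv.refl F) hb (e : Matrix ι ι F)
  rw [hpres] at hg
  have hd := congrArg Matrix.det hg
  have hmap : (e : Matrix ι ι F).map (RingEquiv.refl F) = (e : Matrix ι ι F) := by ext; rfl
  rw [Matrix.det_mul, Matrix.det_mul, hmap, Matrix.det_transpose] at hd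
  have h0 := det_gram_ne_zero (RingEquiv.refl F) hb Δ.hQ.nondegenerate
  change e * e ∈ specialLinear ι F
  rw [mem_specialLinear_iff, Units.val_mul, Matrix.det_mul]
  refine mul_right_cancel₀ h0 ?_
  linear_combination -hd

end Cfsg.Agent.Classical.OSimFour
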