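/-
Four-dimensional quadratic spaces in odd characteristic: adapted bases, transitivity on singular vectors, tori.
-/
import Cfsg.Agent.Lib.Classical.OSimFour.Exist

set_option autoImplicit false
set_option linter.unusedSectionVars false

namespace Cfsg.Agent.Classical.OSimFour

open Matrix Cfsg.Geo
open Cfsg.Agent.Classical

universe u

variable {ι : Type} [Fintype ι] [DecidableEq ι] {F : Type u} [Field F] [Fintype F] {Q : (ι → F) → F}

/-- The polar form. -/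
local notation "⟪" x ", " y "⟫" => QuadraticMap.polar Q x y

/-- A hyperbolic pair and an orthogonal basis of its complement. -/
structure Basis4 (Q : (ι → F) → F) (z z' m n : ι → F) : Prop where
  qz : Q z = 0
  qz' : Q z' = 0
  zz : QuadraticMap.polar Q z z' = 1
  zm : QuadraticMap.polar Q z m = 0
  zn : QuadraticMap.polar Q z n = 0
  z'm : QuadraticMap.polar Q z' m = 0
  z'n : QuadraticMap.polar Q z' n = 0
  mn : QuadraticMap.polar Q m n = 0
  qm : Q m ≠ 0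
  qn : Q n ≠ 0
  expand : ∀ x, x = QuadraticMap.polar Q x z' • z + QuadraticMap.polar Q x z • z' +
    (QuadraticMap.polar Q x m / (2 * Q m)) • m + (QuadraticMap.polar Q x n / (2 * Q n)) • n

variable (Δ : Data Q)

include Δ

theorem not_mem_span {a : ι → F} (h : a ≠ 0) : a ∉ Submodule.span F (Set.range (![] : Fin 0 → ι → F)) := by
  simpa [Matrix.range_empty] using h

theorem exists_partner {z : ι → F} (hz : Q z = 0) (hz0 : z ≠ 0) : ∃ z', Q z' = 0 ∧ ⟪z, z'⟫ = 1 := by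
  obtain ⟨y, -, hy⟩ := exists_sep Δ (not_mem_span Δ hz0)
  refine ⟨y + (-Q y) • z, ?_, ?_⟩
  · rw [quad_sum Δ, quad_smul Δ, hz, smul_right Δ, hy]; ring
  · rw [add_right Δ, smul_right Δ, self_zero Δ hz, symm Δ z y, hy]; ring

/-- Completing a pair and an anisotropic vector of its complement. -/
theorem exists_last {z z' m : ι → F} (hz : Q z = 0) (hz' : Q z' = 0) (hzz : ⟪z, z'⟫ = 1) (hzm : ⟪z, m⟫ = 0)
    (hz'm : ⟪z', m⟫ = 0) (hm : Q m ≠ 0) : ∃ n, Basis4 Q z z' m n := by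
  obtain ⟨n, hn, hn0⟩ := exists_perp Δ ![z, z', m] (![] : Fin 0 → ι → F) (by rw [Δ.hn]; norm_num)
  have hn0' : n ≠ 0 := fun e => hn0 (e ▸ zero_mem _)
  have h2m : (2 : F) * Q m ≠ 0 := mul_ne_zero Δ.h2 hm
  have e1 : ⟪z, n⟫ = 0 := by rw [symm Δ]; exact hn 0
  have e2 : ⟪z', n⟫ = 0 := by rw [symm Δ]; exact hn 1
  have e3 : ⟪m, n⟫ = 0 := by rw [symm Δ]; exact hn 2
  -- the complement of the three is a line
  let M : (ι → F) →ₗ[F] (Fin 3 → F) :=
    { toFun := fun x i => ⟪x, ![z, z', m] i⟫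
      map_add' := fun x y => funext fun i => add_left Δ x y _
      map_smul' := fun c x => funext fun i => smul_left Δ c x _ }
  have hsurj : Function.Surjective M := fun t => ⟨t 0 • z' + t 1 • z + (t 2 / (2 * Q m)) • m, funext fun i => by
    fin_cases i <;>
    · simp only [M, LinearMap.coe_mk, AddHom.coe_mk]
      simp [add_left Δ, smul_left Δ, self_zero Δ hz, self_zero Δ hz', self_eq Δ m, hzz, symm Δ z' z, symm Δ m z,
        symm Δ m z', hzm, hz'm, h2m]⟩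
  have hker : Module.finrank F (LinearMap.ker M) = 1 := by
    have h := LinearMap.finrank_range_add_finrank_ker M
    rw [LinearMap.range_eq_top.mpr hsurj, finrank_top, Module.finrank_fin_fun, finrank_space Δ, Δ.hn] at h
    omega
  have hnk : n ∈ LinearMap.ker M := LinearMap.mem_ker.mpr (funext fun i => hn i)
  have hline : ∀ x, x ∈ LinearMap.ker M → ∃ c : F, x = c • n := fun x hx => by
    obtain ⟨c, hc⟩ := (finrank_eq_one_iff_of_nonzero' (⟨n, hnk⟩ : LinearMap.ker M)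
      (fun e => hn0' (congrArg Subtype.val e))).mp hker ⟨x, hx⟩
    exact ⟨c, (congrArg Subtype.val hc).symm⟩
  have hrest : ∀ x, ∃ c : F, x - (⟪x, z'⟫ • z + ⟪x, z⟫ • z' + (⟪x, m⟫ / (2 * Q m)) • m) = c • n := fun x => by
    refine hline _ (LinearMap.mem_ker.mpr (funext fun i => ?_))
    fin_cases i <;>
    · simp only [M, LinearMap.coe_mk, AddHom.coe_mk]
      simp [sub_left Δ, add_left Δ, smul_left Δ, self_zero Δ hz, self_zero Δ hz', self_eq Δ m, hzz, symm Δ z' z,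
        symm Δ m z, symm Δ m z', hzm, hz'm, div_mul_cancel₀ _ h2m]
  have hqn : Q n ≠ 0 := by
    intro h
    refine hn0' (eq_zero_of_perp Δ fun x => ?_)
    obtain ⟨c, hc⟩ := hrest x
    rw [sub_eq_iff_eq_add] at hc
    rw [hc, add_left Δ, add_left Δ, add_left Δ, smul_left Δ, smul_left Δ, smul_left Δ, smul_left Δ, e1, e2, e3,
      self_zero Δ h]
    ring
  refine ⟨n, ⟨hz, hz', hzz, hzm, e1, hz'm, e2, e3, hm, hqn, fun x => ?_⟩⟩
  obtain ⟨c, hc⟩ := hrest x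
  rw [sub_eq_iff_eq_add] at hc
  have hcv : ⟪x, n⟫ = c * (2 * Q n) := by
    conv_lhs => rw [hc]
    rw [add_left Δ, add_left Δ, add_left Δ, smul_left Δ, smul_left Δ, smul_left Δ, smul_left Δ, e1, e2, e3, self_eq Δ]
    ring
  rw [hcv, mul_div_cancel_right₀ _ (mul_ne_zero Δ.h2 hqn)]
  conv_lhs => rw [hc]
  abel

theorem exists_basis {z : ι → F} (hz : Q z = 0) (hz0 : z ≠ 0) : ∃ z' m n, Basis4 Q z z' m n := by
  obtain ⟨z', hz', hzz⟩ := exists_partner Δ hz hz0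
  obtain ⟨a, ha, ha0⟩ := exists_perp Δ ![z, z'] (![] : Fin 0 → ι → F) (by rw [Δ.hn]; norm_num)
  obtain ⟨m, hm1, hm2, hm⟩ : ∃ m, ⟪z, m⟫ = 0 ∧ ⟪z', m⟫ = 0 ∧ Q m ≠ 0 := by
    by_contra hcon
    push Not at hcon
    refine (fun (e : a = 0) => ha0 (by rw [e]; exact zero_mem _)) (eq_zero_of_perp Δ fun x => ?_)
    have hza : ⟪z, a⟫ = 0 := by rw [symm Δ]; exact ha 0
    have hza' : ⟪z', a⟫ = 0 := by rw [symm Δ]; exact ha 1
    obtain ⟨w, hw⟩ : ∃ w, w = x - (⟪x, z'⟫ • z + ⟪x, z⟫ • z') := ⟨_, rfl⟩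
    have hw1 : ⟪z, w⟫ = 0 := by
      rw [hw, sub_right Δ, add_right Δ, smul_right Δ, smul_right Δ, self_zero Δ hz, hzz, symm Δ z x]; ring
    have hw2 : ⟪z', w⟫ = 0 := by
      rw [hw, sub_right Δ, add_right Δ, smul_right Δ, smul_right Δ, self_zero Δ hz', symm Δ z' z, hzz, symm Δ z' x]; ring
    have e := quad_sum Δ w a
    rw [hcon w hw1 hw2, hcon a hza hza', hcon (w + a) (by rw [add_right Δ, hw1, hza, add_zero])
      (by rw [add_right Δ, hw2, hza', add_zero]), hw, sub_left Δ, add_left Δ, smul_left Δ, smul_left Δ, hza, hza'] at e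
    linear_combination -e
  obtain ⟨n, hB⟩ := exists_last Δ hz hz' hzz hm1 hm2 hm
  exact ⟨z', m, n, hB⟩

theorem Basis4.ne {z z' m n : ι → F} (B : Basis4 Q z z' m n) : z ≠ 0 ∧ z' ≠ 0 := by
  constructor <;> intro e <;> have h := B.zz <;> rw [e] at h
  · rw [zero_left Δ] at h; exact zero_ne_one h
  · rw [zero_right Δ] at h; exact zero_ne_one h

/-- A product of two reflections. -/
theorem exists_refl_two {p p' : ι → F} (hp : Q p ≠ 0) (hp' : Q p' ≠ 0) :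
    ∃ g ∈ quadSimilarityGroup Q ⊓ specialLinear ι F,
      (∀ x y, ⟪(g : Matrix ι ι F) *ᵥ x, (g : Matrix ι ι F) *ᵥ y⟫ = ⟪x, y⟫) ∧
      ∀ x, (g : Matrix ι ι F) *ᵥ x = (x - ((Q p')⁻¹ * ⟪x, p'⟫) • p') -
        ((Q p)⁻¹ * ⟪x - ((Q p')⁻¹ * ⟪x, p'⟫) • p', p⟫) • p := by
  obtain ⟨r, hrd, hr, hrq⟩ := exists_refl Δ hp
  obtain ⟨r', hrd', hr', hrq'⟩ := exists_refl Δ hp'
  have hQ : ∀ x, Q (((r * r' : GL ι F) : Matrix ι ι F) *ᵥ x) = Q x := fun x => by rw [gl_mul_mulVec, hrq, hrq']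
  refine ⟨r * r', ⟨⟨1, fun x => by rw [hQ, Units.val_one, one_mul]⟩, ?_⟩,
    fun x z => by simp only [QuadraticMap.polar, ← Matrix.mulVec_add, hQ], fun x => by rw [gl_mul_mulVec, hr', hr]⟩
  change r * r' ∈ specialLinear ι F
  rw [mem_specialLinear_iff, Units.val_mul, Matrix.det_mul, hrd, hrd']
  norm_num

/-- Special isometries move a singular vector to any other one not orthogonal to it. -/
theorem exists_move_one {z w : ι → F} (hz : Q z = 0) (hw : Q w = 0) (hzw : ⟪z, w⟫ ≠ 0) :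
    ∃ g ∈ quadSimilarityGroup Q ⊓ specialLinear ι F,
      (∀ x y, ⟪(g : Matrix ι ι F) *ᵥ x, (g : Matrix ι ι F) *ᵥ y⟫ = ⟪x, y⟫) ∧ (g : Matrix ι ι F) *ᵥ z = w := by
  have hw0 : w ≠ 0 := fun e => hzw (by rw [e, zero_right Δ])
  obtain ⟨w', m, n, B⟩ := exists_basis Δ hw hw0
  have hd : Q (z - w) = -⟪z, w⟫ := by
    rw [sub_eq_add_neg, ← neg_one_smul F w, quad_sum Δ, quad_smul Δ, smul_right Δ, hz, hw]; ring
  obtain ⟨g, hg, hgi, hgv⟩ := exists_refl_two Δ B.qm (p' := z - w) (by rw [hd]; exact neg_ne_zero.mpr hzw)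
  refine ⟨g, hg, hgi, ?_⟩
  have e : z - ((Q (z - w))⁻¹ * ⟪z, z - w⟫) • (z - w) = w := by
    rw [hd, sub_right Δ, self_zero Δ hz, zero_sub, inv_mul_cancel₀ (neg_ne_zero.mpr hzw), one_smul, sub_sub_cancel]
  rw [hgv, e, B.zm, mul_zero, zero_smul, sub_zero]

/-- Transitivity on singular vectors. -/
theorem exists_move {z w : ι → F} (hz : Q z = 0) (hz0 : z ≠ 0) (hw : Q w = 0) (hw0 : w ≠ 0) :
    ∃ g ∈ quadSimilarityGroup Q ⊓ specialLinear ι F,
      (∀ x y, ⟪(g : Matrix ι ι F) *ᵥ x, (g : Matrix ι ι F) *ᵥ y⟫ = ⟪x, y⟫) ∧ (g : Matrix ι ι F) *ᵥ z = w := by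
  by_cases hzw : ⟪z, w⟫ = 0
  swap
  · exact exists_move_one Δ hz hw hzw
  obtain ⟨z', m, n, B⟩ := exists_basis Δ hz hz0
  obtain ⟨b, hb, hbw⟩ : ∃ b, ⟪z, b⟫ = 0 ∧ ⟪z', w⟫ + ⟪b, w⟫ ≠ 0 := by
    by_contra hcon
    push Not at hcon
    have h0 := hcon 0 (zero_right Δ z)
    have h1 := hcon m B.zm
    have h2 := hcon n B.zn
    rw [zero_left Δ, add_zero] at h0
    rw [h0, zero_add, symm Δ] at h1 h2
    refine hw0 ?_
    rw [B.expand w, symm Δ w z', h0, symm Δ w z, hzw, h1, h2]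
    simp
  obtain ⟨y, hy⟩ : ∃ y, y = (z' + b) + (-Q (z' + b)) • z := ⟨_, rfl⟩
  have hQy : Q y = 0 := by
    rw [hy, quad_sum Δ, quad_smul Δ, B.qz, smul_right Δ, add_left Δ, symm Δ z' z, B.zz, symm Δ b z, hb]; ring
  have hzy : ⟪z, y⟫ ≠ 0 := by
    rw [hy, add_right Δ, add_right Δ, smul_right Δ, B.zz, hb, self_zero Δ B.qz]; simp
  have hyw : ⟪y, w⟫ ≠ 0 := by
    rw [hy, add_left Δ, add_left Δ, smul_left Δ, hzw, mul_zero, add_zero]; exact hbw
  obtain ⟨g, hg, hgi, hgz⟩ := exists_move_one Δ B.qz hQy hzy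
  obtain ⟨h, hh, hhi, hhy⟩ := exists_move_one Δ hQy hw hyw
  exact ⟨h * g, mul_mem hh hg, fun x v => by rw [gl_mul_mulVec, gl_mul_mulVec, hhi, hgi],
    by rw [gl_mul_mulVec, hgz, hhy]⟩

/-- The split torus of a pair. -/
theorem exists_torus {z z' m n : ι → F} (B : Basis4 Q z z' m n) {l : F} (hl : l ≠ 0) :
    ∃ g ∈ quadSimilarityGroup Q ⊓ specialLinear ι F,
      (∀ x y, ⟪(g : Matrix ι ι F) *ᵥ x, (g : Matrix ι ι F) *ᵥ y⟫ = ⟪x, y⟫) ∧ (g : Matrix ι ι F) *ᵥ z = l • z ∧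
      ∀ x, ⟪z, x⟫ = 0 → ⟪z', x⟫ = 0 → (g : Matrix ι ι F) *ᵥ x = x := by
  have h1 : Q (l • z - z') = -l := by
    rw [sub_eq_add_neg, ← neg_one_smul F z', quad_sum Δ, quad_smul Δ, quad_smul Δ, B.qz, B.qz', smul_left Δ,
      smul_right Δ, B.zz]; ring
  have h2 : Q (z - z') = -1 := by
    rw [sub_eq_add_neg, ← neg_one_smul F z', quad_sum Δ, quad_smul Δ, B.qz, B.qz', smul_right Δ, B.zz]; ring
  obtain ⟨g, hg, hgi, hgv⟩ := exists_refl_two Δ (p := l • z - z') (by rw [h1]; exact neg_ne_zero.mpr hl)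
    (p' := z - z') (by rw [h2]; norm_num)
  refine ⟨g, hg, hgi, ?_, fun x hx hx' => ?_⟩
  · rw [hgv, h1, h2, sub_right Δ, self_zero Δ B.qz, B.zz]
    rw [show z - ((-1 : F)⁻¹ * (0 - 1)) • (z - z') = z' by rw [show ((-1 : F)⁻¹ * (0 - 1)) = 1 by norm_num, one_smul]; abel,
      sub_right Δ, smul_right Δ, symm Δ z' z, B.zz, self_zero Δ B.qz']
    rw [show ((-l)⁻¹ * (l * 1 - 0)) = (-1 : F) by field_simp; ring, neg_one_smul, sub_neg_eq_add, add_sub_cancel]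
  · have a : ⟪x, z - z'⟫ = 0 := by rw [sub_right Δ, symm Δ x z, hx, symm Δ x z', hx']; ring
    have b : ⟪x, l • z - z'⟫ = 0 := by rw [sub_right Δ, smul_right Δ, symm Δ x z, hx, symm Δ x z', hx']; ring
    rw [hgv, a, mul_zero, zero_smul, sub_zero, b, mul_zero, zero_smul, sub_zero]

end Cfsg.Agent.Classical.OSimFour
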