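/-
An element fixing a singular line that is not a similarity gives a transvection with singular centre.
-/
import Cfsg.Agent.Lib.Classical.OSimFour.Basis
import Cfsg.Agent.Lib.Classical.SubfieldMaximalSL

set_option autoImplicit false
set_option linter.unusedSectionVars false

namespace Cfsg.Agent.Classical.OSimFour

open Matrix Cfsg.Geo
open Cfsg.Agent.Classical

universe u

variable {ι : Type} [Fintype ι] [DecidableEq ι] {F : Type u} [Field F] [Fintype F] {Q : (ι → F) → F}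
  {K : Subgroup (GL ι F)}

/-- The polar form. -/
local notation "⟪" x ", " y "⟫" => QuadraticMap.polar Q x y

/-- The subgroup holds the transvection with centre `v` and axis orthogonal to `a`. -/
def Has (Q : (ι → F) → F) (K : Subgroup (GL ι F)) (v a : ι → F) : Prop :=
  ∃ t ∈ K, ∀ x, (t : Matrix ι ι F) *ᵥ x = x + QuadraticMap.polar Q x a • v

variable (Δ : Data Q)

include Δ

theorem has_conj (hK : quadSimilarityGroup Q ⊓ specialLinear ι F ≤ K) {h : GL ι F}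
    (hh : h ∈ quadSimilarityGroup Q ⊓ specialLinear ι F)
    (hiso : ∀ x y, ⟪(h : Matrix ι ι F) *ᵥ x, (h : Matrix ι ι F) *ᵥ y⟫ = ⟪x, y⟫) {v a : ι → F}
    (hva : Has Q K v a) : Has Q K ((h : Matrix ι ι F) *ᵥ v) ((h : Matrix ι ι F) *ᵥ a) := by
  obtain ⟨t, ht, htv⟩ := hva
  refine ⟨h * t * h⁻¹, K.mul_mem (K.mul_mem (hK hh) ht) (K.inv_mem (hK hh)), fun x => ?_⟩
  rw [gl_mul_mulVec, gl_mul_mulVec, htv, Matrix.mulVec_add, gl_mulVec_inv_cancel, Matrix.mulVec_smul,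
    ← hiso (((h⁻¹ : GL ι F) : Matrix ι ι F) *ᵥ x) a, gl_mulVec_inv_cancel]

theorem has_zero (v : ι → F) : Has Q K v 0 := ⟨1, K.one_mem, fun x => by simp [zero_right Δ]⟩

theorem has_zero' (a : ι → F) : Has Q K 0 a := ⟨1, K.one_mem, fun x => by simp⟩

theorem has_shift {k : F} {v a : ι → F} (h : Has Q K (k • v) a) : Has Q K v (k • a) := by
  obtain ⟨t, ht, htv⟩ := h
  exact ⟨t, ht, fun x => by rw [htv, smul_smul, smul_right Δ, mul_comm]⟩

theorem has_shift' {k : F} {v a : ι → F} (h : Has Q K v (k • a)) : Has Q K (k • v) a := by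
  obtain ⟨t, ht, htv⟩ := h
  exact ⟨t, ht, fun x => by rw [htv, smul_smul, smul_right Δ, mul_comm]⟩

theorem has_add {c x y : ι → F} (hx : ⟪c, x⟫ = 0) (hcx : Has Q K c x) (hcy : Has Q K c y) : Has Q K c (x + y) := by
  obtain ⟨t, ht, htv⟩ := hcx
  obtain ⟨s, hs, hsv⟩ := hcy
  refine ⟨t * s, K.mul_mem ht hs, fun z => ?_⟩
  rw [gl_mul_mulVec, hsv, htv, add_left Δ, smul_left Δ, hx, mul_zero, add_zero, add_right Δ, add_smul]
  abel

theorem has_add' {c x y : ι → F} (hy : ⟪y, c⟫ = 0) (hxc : Has Q K x c) (hyc : Has Q K y c) : Has Q K (x + y) c := by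
  obtain ⟨t, ht, htv⟩ := hxc
  obtain ⟨s, hs, hsv⟩ := hyc
  refine ⟨t * s, K.mul_mem ht hs, fun z => ?_⟩
  rw [gl_mul_mulVec, hsv, htv, add_left Δ, smul_left Δ, hy, mul_zero, add_zero, smul_add]
  abel

theorem has_neg {v a : ι → F} (hva : ⟪v, a⟫ = 0) (h : Has Q K v a) : Has Q K v (-a) := by
  obtain ⟨t, ht, htv⟩ := h
  refine ⟨t⁻¹, K.inv_mem ht, fun x => gl_mulVec_injective t ?_⟩
  dsimp only
  rw [gl_mulVec_inv_cancel, htv, add_left Δ, smul_left Δ, hva, mul_zero, add_zero, add_assoc, ← add_smul,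
    neg_right Δ, neg_add_cancel, zero_smul, add_zero]

theorem has_sub {c x y : ι → F} (hx : ⟪c, x⟫ = 0) (hy : ⟪c, y⟫ = 0) (hcx : Has Q K c x) (hcy : Has Q K c y) :
    Has Q K c (x - y) := by
  rw [sub_eq_add_neg]
  exact has_add Δ hx hcx (has_neg Δ hy hcy)

/-- The transvection with singular centre fixed with its polar hyperplane. -/
theorem radical_case (hK : quadSimilarityGroup Q ⊓ specialLinear ι F ≤ K) (hKS : K ≤ specialLinear ι F)
    {z : ι → F} (hz : Q z = 0) (hz0 : z ≠ 0) {h : GL ι F} (hh : h ∈ K) {lam kap : F} (hlam : lam ≠ 0) (hkap : kap ≠ 0)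
    (hhz : (h : Matrix ι ι F) *ᵥ z = lam • z) (hpole : ∀ y, ⟪(h : Matrix ι ι F) *ᵥ y, z⟫ = kap * ⟪y, z⟫) :
    h ∈ quadSimilarityGroup Q ∨ ∃ c, c ≠ 0 ∧ ⟪z, c⟫ = 0 ∧ Has Q K z c := by
  classical
  by_cases hno : ∃ c, c ≠ 0 ∧ ⟪z, c⟫ = 0 ∧ Has Q K z c
  · exact Or.inr hno
  left
  have key : ∀ b, ⟪z, b⟫ = 0 → ∀ y, kap * lam * (⟪y, b⟫ + Q b * ⟪y, z⟫) =
      ⟪(h : Matrix ι ι F) *ᵥ y, (h : Matrix ι ι F) *ᵥ b⟫ + Q ((h : Matrix ι ι F) *ᵥ b) * ⟪y, z⟫ := by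
    intro b hb
    obtain ⟨b', hb'⟩ : ∃ b', b' = kap⁻¹ • ((h : Matrix ι ι F) *ᵥ b) := ⟨_, rfl⟩
    have hzb' : ⟪z, b'⟫ = 0 := by
      rw [hb', smul_right Δ, symm Δ, hpole, symm Δ b z, hb]; ring
    obtain ⟨u, hu, hue, -⟩ := exists_eichler_one Δ hz hb
    obtain ⟨u', hu', hue', -⟩ := exists_eichler_one Δ hz hzb'
    obtain ⟨T, hT⟩ : ∃ T, T = h * u * h⁻¹ * u'⁻¹ := ⟨_, rfl⟩
    have hTK : T ∈ K := hT ▸ mul_mem (mul_mem (mul_mem hh (hK hu)) (inv_mem hh)) (inv_mem (hK hu'))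
    obtain ⟨D, hD⟩ : ∃ D : (ι → F) → F, D = fun y => -lam * (⟪y, b⟫ + Q b * ⟪y, z⟫) +
        (⟪(h : Matrix ι ι F) *ᵥ y, b'⟫ + Q b' * (kap * ⟪y, z⟫)) := ⟨_, rfl⟩
    have hTu : ∀ y, (T : Matrix ι ι F) *ᵥ ((u' : Matrix ι ι F) *ᵥ ((h : Matrix ι ι F) *ᵥ y)) =
        (u' : Matrix ι ι F) *ᵥ ((h : Matrix ι ι F) *ᵥ y) + D y • z := fun y => by
      rw [hT, gl_mul_mulVec, gl_inv_mulVec_cancel, gl_mul_mulVec, gl_inv_mulVec_cancel, gl_mul_mulVec, hue,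
        Matrix.mulVec_sub, Matrix.mulVec_add, Matrix.mulVec_smul, Matrix.mulVec_smul, hhz, hue', hpole, hb',
        hD]
      simp only [hb', smul_smul]
      rw [mul_right_comm kap, mul_inv_cancel₀ hkap, one_mul]
      module
    obtain ⟨c, hc⟩ := exists_rep Δ
      { toFun := fun w => D (((h⁻¹ : GL ι F) : Matrix ι ι F) *ᵥ (((u'⁻¹ : GL ι F) : Matrix ι ι F) *ᵥ w))
        map_add' := fun v w => by
          simp only [hD, Matrix.mulVec_add, add_left Δ]; ring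
        map_smul' := fun k w => by
          simp only [hD, Matrix.mulVec_smul, smul_left Δ, RingHom.id_apply, smul_eq_mul]; ring }
    have hTc : ∀ w, (T : Matrix ι ι F) *ᵥ w = w + ⟪w, c⟫ • z := fun w => by
      obtain ⟨y, rfl⟩ : ∃ y, w = (u' : Matrix ι ι F) *ᵥ ((h : Matrix ι ι F) *ᵥ y) :=
        ⟨((h⁻¹ : GL ι F) : Matrix ι ι F) *ᵥ (((u'⁻¹ : GL ι F) : Matrix ι ι F) *ᵥ w),
          by rw [gl_mulVec_inv_cancel, gl_mulVec_inv_cancel]⟩
      rw [hTu, hc]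
      simp only [LinearMap.coe_mk, AddHom.coe_mk, gl_inv_mulVec_cancel]
    have hzc : ⟪z, c⟫ = 0 := by
      have hu'z : (u' : Matrix ι ι F) *ᵥ z = z := by
        rw [hue', self_zero Δ hz, hzb']; simp
      have e : ((h⁻¹ : GL ι F) : Matrix ι ι F) *ᵥ (((u'⁻¹ : GL ι F) : Matrix ι ι F) *ᵥ z) = lam⁻¹ • z := by
        conv_lhs => rw [← hu'z, gl_inv_mulVec_cancel, show z = lam⁻¹ • ((h : Matrix ι ι F) *ᵥ z) by
          rw [hhz, smul_smul, inv_mul_cancel₀ hlam, one_smul]]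
        rw [Matrix.mulVec_smul, gl_inv_mulVec_cancel]
      rw [hc]
      simp only [LinearMap.coe_mk, AddHom.coe_mk, e, hD, smul_left Δ, hb, self_zero Δ hz,
        Matrix.mulVec_smul, hhz, hzb']
      ring
    have hc0 : c = 0 := by_contra fun hc0 => hno ⟨c, hc0, hzc, T, hTK, hTc⟩
    intro y
    have e := hTc ((u' : Matrix ι ι F) *ᵥ ((h : Matrix ι ι F) *ᵥ y))
    rw [hTu, hc0, zero_right Δ, zero_smul] at e
    have e' : D y = 0 := (smul_eq_zero.mp (add_left_cancel e)).resolve_right hz0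
    rw [hD] at e'
    simp only [hb', smul_right Δ, quad_smul Δ] at e'
    field_simp at e'
    linear_combination -e'
  obtain ⟨z', m, n, B⟩ := exists_basis Δ hz hz0
  obtain ⟨μ, hμ⟩ : ∃ μ, μ = kap * lam := ⟨_, rfl⟩
  obtain ⟨ρ, hρ⟩ : ∃ ρ, ρ = Q ((h : Matrix ι ι F) *ᵥ z') / μ := ⟨_, rfl⟩
  have hμ0 : μ ≠ 0 := hμ ▸ mul_ne_zero hkap hlam
  have hQh : ∀ x, Q ((h : Matrix ι ι F) *ᵥ x) = μ * (Q x + ρ * ⟪x, z⟫ ^ 2) := fun x => by
    obtain ⟨x0, hx0⟩ : ∃ x0, x0 = x - ⟪x, z⟫ • z' := ⟨_, rfl⟩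
    have hzx0 : ⟪z, x0⟫ = 0 := by rw [hx0, sub_right Δ, smul_right Δ, B.zz, symm Δ z x]; ring
    have k1 := key x0 hzx0 x0
    rw [symm Δ x0 z, hzx0, mul_zero, mul_zero, add_zero, add_zero, self_eq Δ, self_eq Δ] at k1
    have k1' : Q ((h : Matrix ι ι F) *ᵥ x0) = μ * Q x0 := by
      rw [hμ]; exact mul_left_cancel₀ Δ.h2 (by linear_combination -k1)
    have k2 := key x0 hzx0 z'
    rw [symm Δ z' z, B.zz, mul_one, mul_one, k1'] at k2
    have hx : x = x0 + ⟪x, z⟫ • z' := by rw [hx0]; abel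
    conv_lhs => rw [hx, Matrix.mulVec_add, Matrix.mulVec_smul, quad_sum Δ, quad_smul Δ, smul_right Δ, k1']
    conv_rhs => arg 2; arg 1; rw [hx]
    rw [quad_sum Δ, quad_smul Δ, smul_right Δ, B.qz', symm Δ ((h : Matrix ι ι F) *ᵥ x0), hρ, symm Δ x0 z']
    field_simp
    rw [← hμ] at k2
    linear_combination (-⟪x, z⟫) * k2
  by_cases hρ0 : ρ = 0
  · exact ⟨Units.mk0 μ hμ0, fun x => by rw [hQh, hρ0, Units.val_mk0]; ring⟩
  exfalso
  obtain ⟨φ, hφ⟩ : ∃ φ : ι → F, φ = fun i => -ρ * ⟪Pi.single i 1, z⟫ := ⟨_, rfl⟩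
  have hw : ∀ x, φ ⬝ᵥ x = -ρ * ⟪x, z⟫ := fun x => by
    conv_rhs => rw [pi_eq_sum_univ' x]
    let L : (ι → F) →ₗ[F] F :=
      { toFun := fun y => -ρ * ⟪y, z⟫
        map_add' := fun y w => by rw [add_left Δ, mul_add]
        map_smul' := fun c y => by rw [smul_left Δ, RingHom.id_apply, smul_eq_mul]; ring }
    show φ ⬝ᵥ x = L _
    rw [map_sum]
    simp only [map_smul, dotProduct, hφ, L, LinearMap.coe_mk, AddHom.coe_mk, smul_eq_mul]
    simp [Pi.single_apply, mul_comm]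
  obtain ⟨t, ht, htv⟩ := SubMaxSL.exists_tv (v := z) (φ := φ) (by rw [hw, self_zero Δ hz, mul_zero])
  have htQ : h * t ∈ quadSimilarityGroup Q := ⟨Units.mk0 μ hμ0, fun x => by
    rw [gl_mul_mulVec, hQh, htv, hw, Units.val_mk0, quad_sum Δ, quad_smul Δ, hz, smul_right Δ, add_left Δ,
      smul_left Δ, self_zero Δ hz]
    ring⟩
  have htK : t ∈ K := by
    have := mul_mem (inv_mem hh) (hK ⟨htQ, mul_mem (hKS hh) ht⟩)
    rwa [inv_mul_cancel_left] at this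
  refine hno ⟨(-ρ) • z, smul_ne_zero (neg_ne_zero.mpr hρ0) hz0,
    by rw [smul_right Δ, self_zero Δ hz, mul_zero], t, htK, fun x => ?_⟩
  rw [htv, hw, smul_right Δ]

/-- An element fixing a singular line outside the similarities. -/
theorem exists_has_of_fix (hK : quadSimilarityGroup Q ⊓ specialLinear ι F ≤ K) (hKS : K ≤ specialLinear ι F)
    {z : ι → F} (hz : Q z = 0) (hz0 : z ≠ 0) {g : GL ι F} (hg : g ∈ K) {lam : F} (hlam : lam ≠ 0)
    (hgz : (g : Matrix ι ι F) *ᵥ z = lam • z) (hgn : g ∉ quadSimilarityGroup Q) :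
    ∃ c, c ≠ 0 ∧ ⟪z, c⟫ = 0 ∧ Has Q K z c := by
  classical
  by_contra hno
  obtain ⟨a, ha⟩ := exists_rep Δ
    { toFun := fun w => ⟪((g⁻¹ : GL ι F) : Matrix ι ι F) *ᵥ w, z⟫
      map_add' := fun v w => by rw [Matrix.mulVec_add, add_left Δ]
      map_smul' := fun k w => by rw [Matrix.mulVec_smul, smul_left Δ]; rfl }
  have hga : ∀ y, ⟪(g : Matrix ι ι F) *ᵥ y, a⟫ = ⟪y, z⟫ := fun y => by
    rw [ha]; simp only [LinearMap.coe_mk, AddHom.coe_mk, gl_inv_mulVec_cancel]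
  have hza : ⟪z, a⟫ = 0 := by
    have e := hga z
    rw [hgz, smul_left Δ, self_zero Δ hz] at e
    exact (mul_eq_zero.mp e).resolve_left hlam
  obtain ⟨z', m, n, B⟩ := exists_basis Δ hz hz0
  by_cases hA : a ∈ Submodule.span F (Set.range ![z])
  · obtain ⟨k, rfl⟩ := mem_span1 Δ hA
    have hk : k ≠ 0 := fun e => by
      have := hga z'
      rw [e, zero_smul, zero_right Δ, symm Δ z' z, B.zz] at this
      exact zero_ne_one this
    exact hgn ((radical_case Δ hK hKS hz hz0 hg hlam (inv_ne_zero hk) hgz fun y => by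
      rw [← hga y, smul_right Δ, inv_mul_cancel_left₀ hk]).resolve_right hno)
  obtain ⟨b, hb, hbz⟩ := exists_perp Δ ![z, a] ![z] (by rw [Δ.hn]; norm_num)
  have hzb : ⟪z, b⟫ = 0 := by rw [symm Δ]; exact hb 0
  have hab : ⟪a, b⟫ = 0 := by rw [symm Δ]; exact hb 1
  obtain ⟨u, hu, hue, -⟩ := exists_eichler_one Δ hz hzb
  obtain ⟨h, hh⟩ : ∃ h, h = g⁻¹ * u * g := ⟨_, rfl⟩
  have hhK : h ∈ K := hh ▸ mul_mem (mul_mem (inv_mem hg) (hK hu)) hg
  have hhe : ∀ y, (g : Matrix ι ι F) *ᵥ ((h : Matrix ι ι F) *ᵥ y) =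
      (u : Matrix ι ι F) *ᵥ ((g : Matrix ι ι F) *ᵥ y) := fun y => by
    rw [← gl_mul_mulVec, hh, show g * (g⁻¹ * u * g) = u * g by group, gl_mul_mulVec]
  have hhz : (h : Matrix ι ι F) *ᵥ z = (1 : F) • z := by
    refine gl_mulVec_injective g ?_
    dsimp only
    rw [hhe, one_smul, hgz, Matrix.mulVec_smul, hue, self_zero Δ hz, hzb]
    simp
  have hpole : ∀ y, ⟪(h : Matrix ι ι F) *ᵥ y, z⟫ = (1 : F) * ⟪y, z⟫ := fun y => by
    rw [← hga, hhe, hue, sub_left Δ, add_left Δ, smul_left Δ, smul_left Δ, symm Δ b a, hab, hza, hga]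
    ring
  obtain ⟨μ, hμ⟩ := (radical_case Δ hK hKS hz hz0 hhK one_ne_zero one_ne_zero hhz hpole).resolve_right hno
  have hpol : ∀ x y, ⟪(h : Matrix ι ι F) *ᵥ x, (h : Matrix ι ι F) *ᵥ y⟫ = (μ : F) * ⟪x, y⟫ := fun x y => by
    simp only [QuadraticMap.polar, ← Matrix.mulVec_add, hμ]; ring
  have hμ1 : (μ : F) = 1 := by
    have e := hpol z' z
    rw [hhz, one_smul, hpole, one_mul, symm Δ z' z, B.zz, mul_one] at e
    exact e.symm
  obtain ⟨b0, hb0⟩ : ∃ b0, b0 = ((g⁻¹ : GL ι F) : Matrix ι ι F) *ᵥ b := ⟨_, rfl⟩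
  have hgb0 : (g : Matrix ι ι F) *ᵥ b0 = b := by rw [hb0, gl_mulVec_inv_cancel]
  have hzb0 : ⟪b0, z⟫ = 0 := by rw [← hga, hgb0, symm Δ, hab]
  obtain ⟨f, hf⟩ : ∃ f : (ι → F) → F, f = fun y => ⟪(g : Matrix ι ι F) *ᵥ y, z⟫ := ⟨_, rfl⟩
  have hhy : ∀ y, (h : Matrix ι ι F) *ᵥ y = y + f y • b0 -
      (lam⁻¹ * (⟪(g : Matrix ι ι F) *ᵥ y, b⟫ + Q b * f y)) • z := fun y => by
    refine gl_mulVec_injective g ?_
    dsimp only
    rw [hhe, hue, Matrix.mulVec_sub, Matrix.mulVec_add, Matrix.mulVec_smul, Matrix.mulVec_smul, hgb0, hgz,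
      smul_smul, hf]
    congr 2
    field_simp
  have hquad : ∀ y y', ⟪y, z⟫ = 0 → ⟪y', z⟫ = 0 →
      f y * f y' * (2 * Q b0) + f y * ⟪b0, y'⟫ + f y' * ⟪y, b0⟫ = 0 := fun y y' hy hy' => by
    have e := hpol y y'
    rw [hμ1, one_mul, hhy, hhy] at e
    simp only [sub_left Δ, sub_right Δ, add_left Δ, add_right Δ, smul_left Δ, smul_right Δ, hy, self_zero Δ hz, hzb0,
      symm Δ z y', hy', symm Δ z b0, self_eq Δ b0] at e
    linear_combination e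
  obtain ⟨w, hw, hwz⟩ := exists_sep Δ (s := ![a]) (a := z) (fun hm => hA (by
    obtain ⟨k, hk⟩ := mem_span1 Δ hm
    have hk0 : k ≠ 0 := fun e => hz0 (by rw [hk, e, zero_smul])
    rw [show a = k⁻¹ • z by rw [hk, smul_smul, inv_mul_cancel₀ hk0, one_smul]]
    exact Submodule.smul_mem _ _ (Submodule.subset_span ⟨0, rfl⟩)))
  obtain ⟨y1, hy1⟩ : ∃ y1, y1 = ((g⁻¹ : GL ι F) : Matrix ι ι F) *ᵥ w := ⟨_, rfl⟩
  have hgy1 : (g : Matrix ι ι F) *ᵥ y1 = w := by rw [hy1, gl_mulVec_inv_cancel]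
  have hy1z : ⟪y1, z⟫ = 0 := by rw [← hga, hgy1]; exact hw 0
  have hf1 : f y1 = 1 := by rw [hf]; dsimp only; rw [hgy1, hwz]
  have hfb : f b0 = 0 := by rw [hf]; dsimp only; rw [hgb0, symm Δ, hzb]
  have q0 : Q b0 = 0 := by
    have e := hquad y1 b0 hy1z hzb0
    rw [hf1, hfb, self_eq Δ] at e
    exact (mul_eq_zero.mp (by linear_combination e : (2 : F) * Q b0 = 0)).resolve_left Δ.h2
  have q1 : ⟪y1, b0⟫ = 0 := by
    have e := hquad y1 y1 hy1z hy1z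
    rw [hf1, q0, symm Δ b0 y1] at e
    exact (mul_eq_zero.mp (by linear_combination e : (2 : F) * ⟪y1, b0⟫ = 0)).resolve_left Δ.h2
  have q2 : ∀ y, ⟪y, z⟫ = 0 → ⟪b0, y⟫ = 0 := fun y hy => by
    have e := hquad y1 y hy1z hy
    rw [hf1, q0, q1] at e
    linear_combination e
  have hb0e : b0 = ⟪b0, z'⟫ • z := by
    conv_lhs => rw [B.expand b0, hzb0, q2 m (by rw [symm Δ, B.zm]), q2 n (by rw [symm Δ, B.zn])]
    simp
  refine hbz ?_
  rw [← hgb0, hb0e, Matrix.mulVec_smul, hgz, smul_smul]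
  exact Submodule.smul_mem _ _ (Submodule.subset_span ⟨0, rfl⟩)

end Cfsg.Agent.Classical.OSimFour
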