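/-
One transvection with singular centre spreads to all of them.
-/
import Cfsg.Agent.Lib.Classical.OSimFour.Fix

set_option autoImplicit false
set_option linter.unusedSectionVars false

namespace Cfsg.Agent.Classical.OSimFour

open Matrix Cfsg.Geo
open Cfsg.Agent.Classical

universe u

variable {ι : Type} [Fintype ι] [DecidableEq ι] {F : Type u} [Field F] [Fintype F] {Q : (ι → F) → F}
  {K : Subgroup (GL ι F)}

/-- The polar form. -/
local notation "⟪" x ", " y "⟫" => QuadraticMap.polar Q x y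

variable (Δ : Data Q)

include Δ

theorem two_sq {α : F} (hα : α ≠ 0) (n : F) : ∃ s r : F, α * s ^ 2 + α * r ^ 2 = n := by
  obtain ⟨s, r, h⟩ := FiniteField.exists_root_sum_quadratic (R := F)
    (f := Polynomial.C α * Polynomial.X ^ 2) (g := Polynomial.C α * Polynomial.X ^ 2 + Polynomial.C (-n))
    (Polynomial.degree_C_mul_X_pow 2 hα)
    (by rw [Polynomial.degree_add_C (by rw [Polynomial.degree_C_mul_X_pow 2 hα]; norm_num),
      Polynomial.degree_C_mul_X_pow 2 hα]; rfl)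
    (FiniteField.odd_card_of_char_ne_two fun hc => Δ.h2 (by
      haveI := ringChar.of_eq hc
      exact CharTwo.two_eq_zero))
  simp only [Polynomial.eval_mul, Polynomial.eval_C, Polynomial.eval_pow, Polynomial.eval_X,
    Polynomial.eval_add] at h
  exact ⟨s, r, by linear_combination h⟩

theorem centre_line (hK : quadSimilarityGroup Q ⊓ specialLinear ι F ≤ K) {z z' m n c : ι → F} (B : Basis4 Q z z' m n)
    (hc0 : c ≠ 0) (hzc : ⟪z, c⟫ = 0) (h : Has Q K z c) : ∀ t : F, Has Q K z (t • z) := by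
  by_cases hm : ⟪c, m⟫ = 0 ∧ ⟪c, n⟫ = 0
  · obtain ⟨hm, hn⟩ := hm
    obtain ⟨k, hk0, rfl⟩ : ∃ k : F, k ≠ 0 ∧ c = k • z := by
      have e : c = ⟪c, z'⟫ • z := by
        conv_lhs => rw [B.expand c, hm, hn, symm Δ c z, hzc]
        simp
      exact ⟨_, fun e' => hc0 (by rw [e, e', zero_smul]), e⟩
    have hsq : ∀ l : F, Has Q K z ((k * l ^ 2) • z) := fun l => by
      by_cases hl : l = 0
      · rw [hl, zero_pow two_ne_zero, mul_zero, zero_smul]; exact has_zero Δ z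
      obtain ⟨g, hg, hgi, hgz, -⟩ := exists_torus Δ B hl
      have h1 := has_conj Δ hK hg hgi h
      rw [Matrix.mulVec_smul, hgz] at h1
      have h2 := has_shift Δ h1
      rwa [smul_smul, smul_smul, show l * k * l = k * l ^ 2 by ring] at h2
    intro t
    obtain ⟨s, r, hsr⟩ := two_sq Δ hk0 t
    have := has_add Δ (by rw [smul_right Δ, self_zero Δ B.qz, mul_zero]) (hsq s) (hsq r)
    rwa [← add_smul, hsr] at this
  · intro t
    obtain ⟨p, hzp, hcp⟩ : ∃ p, ⟪z, p⟫ = 0 ∧ ⟪c, p⟫ ≠ 0 := by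
      by_cases hm' : ⟪c, m⟫ = 0
      · exact ⟨n, B.zn, fun e => hm ⟨hm', e⟩⟩
      · exact ⟨m, B.zm, hm'⟩
    obtain ⟨g, hg, hge, hgi⟩ := exists_eichler_one Δ B.qz (w := (-t / ⟪c, p⟫) • p) (by rw [smul_right Δ, hzp, mul_zero])
    have h1 := has_conj Δ hK hg hgi h
    have e1 : (g : Matrix ι ι F) *ᵥ z = z := by
      rw [hge, self_zero Δ B.qz, smul_right Δ, hzp]; simp
    have e2 : (g : Matrix ι ι F) *ᵥ c = c + t • z := by
      rw [hge, symm Δ c z, hzc, smul_right Δ, div_mul_cancel₀ _ hcp]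
      simp
    rw [e1, e2] at h1
    have h2 := has_sub Δ (by rw [add_right Δ, hzc, smul_right Δ, self_zero Δ B.qz]; ring) hzc h1 h
    rwa [add_sub_cancel_left] at h2

/-- A pole in the complement with prescribed value. -/
theorem exists_middle (hK : quadSimilarityGroup Q ⊓ specialLinear ι F ≤ K) {z z' m n : ι → F} (B : Basis4 Q z z' m n)
    (hline : ∀ t : F, Has Q K z (t • z)) :
    ∃ m', ⟪z, m'⟫ = 0 ∧ ⟪z', m'⟫ = 0 ∧ Q m' = Q m ∧ Has Q K z m' := by
  obtain ⟨hz0, hz'0⟩ := B.ne Δ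
  obtain ⟨k, hk⟩ : ∃ k, k = -Q m := ⟨_, rfl⟩
  have hk0 : k ≠ 0 := hk ▸ neg_ne_zero.mpr B.qm
  -- the opposite centre
  obtain ⟨g, hg, hgi, hgz⟩ := exists_move Δ B.qz hz0 B.qz' hz'0
  have hT := has_conj Δ hK hg hgi (hline k)
  rw [Matrix.mulVec_smul, hgz] at hT
  obtain ⟨s, hs, hsv⟩ := hT
  obtain ⟨t, ht, htv⟩ := hline 1
  obtain ⟨v, hv⟩ : ∃ v, v = z + k • z' := ⟨_, rfl⟩
  obtain ⟨a, ha⟩ : ∃ a, a = z - k • z' := ⟨_, rfl⟩
  have hva : Has Q K v a := by
    refine ⟨s * t * s⁻¹, mul_mem (mul_mem hs ht) (inv_mem hs), fun x => ?_⟩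
    obtain ⟨y, rfl⟩ : ∃ y, x = (s : Matrix ι ι F) *ᵥ y :=
      ⟨((s⁻¹ : GL ι F) : Matrix ι ι F) *ᵥ x, (gl_mulVec_inv_cancel s x).symm⟩
    rw [gl_mul_mulVec, gl_inv_mulVec_cancel, gl_mul_mulVec, htv, Matrix.mulVec_add, Matrix.mulVec_smul, one_smul, hsv z,
      hsv y, hv, ha]
    simp only [smul_right Δ, sub_right Δ, add_left Δ, smul_left Δ, self_zero Δ B.qz', symm Δ z' z, B.zz, mul_one,
      mul_zero, add_zero]
    module
  have hvv : ⟪v, a⟫ = 0 := by
    rw [hv, ha]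
    simp only [sub_right Δ, add_left Δ, smul_left Δ, smul_right Δ, self_zero Δ B.qz, self_zero Δ B.qz', symm Δ z' z, B.zz]
    ring
  obtain ⟨u, hu⟩ : ∃ u, u = v + m := ⟨_, rfl⟩
  have hQv : Q v = k := by rw [hv, quad_sum Δ, quad_smul Δ, B.qz, B.qz', smul_right Δ, B.zz]; ring
  have hvm : ⟪v, m⟫ = 0 := by rw [hv, add_left Δ, smul_left Δ, B.zm, B.z'm]; ring
  have hQu : Q u = 0 := by rw [hu, quad_sum Δ, hQv, hvm, hk]; ring
  have hua : ⟪u, a⟫ = 0 := by
    rw [hu, add_left Δ, hvv, ha, sub_right Δ, smul_right Δ, symm Δ m z, B.zm, symm Δ m z', B.z'm]; ring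
  have hvn : ⟪v, n⟫ = 0 := by rw [hv, add_left Δ, smul_left Δ, B.zn, B.z'n]; ring
  have han : ⟪a, n⟫ = 0 := by rw [ha, sub_left Δ, smul_left Δ, B.zn, B.z'n]; ring
  have hun : ⟪u, n⟫ = 0 := by rw [hu, add_left Δ, hvn, B.mn]; ring
  have hvu : ⟪v, u⟫ = 2 * k := by rw [hu, add_right Δ, hvm, self_eq Δ, hQv]; ring
  have step : ∀ r : F, Has Q K (v + (2 * k * r) • n + (-(2 * k * Q n) * r ^ 2) • u) a := fun r => by
    obtain ⟨e, he, hev, hei⟩ := exists_eichler_one Δ hQu (w := r • n) (by rw [smul_right Δ, hun, mul_zero])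
    have h1 := has_conj Δ hK he hei hva
    have e1 : (e : Matrix ι ι F) *ᵥ a = a := by
      rw [hev, symm Δ a u, hua, smul_right Δ, han]; simp
    have e2 : (e : Matrix ι ι F) *ᵥ v = v + (2 * k * r) • n + (-(2 * k * Q n) * r ^ 2) • u := by
      rw [hev, hvu, smul_right Δ, hvn, quad_smul Δ, smul_smul]
      module
    rwa [e1, e2] at h1
  have hn0' : ∀ r : F, ⟪v + (2 * k * r) • n + (-(2 * k * Q n) * r ^ 2) • u, a⟫ = 0 := fun r => by
    rw [add_left Δ, add_left Δ, smul_left Δ, smul_left Δ, hvv, symm Δ n a, han, hua]; ring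
  have neg' : ∀ w, ⟪w, a⟫ = 0 → Has Q K w a → Has Q K (-w) a := fun w hw h => by
    rw [show -w = (-1 : F) • w by simp]
    refine has_shift' Δ ?_
    rw [neg_one_smul]
    exact has_neg Δ hw h
  have line : ∀ r : F, Has Q K ((-(4 * k * Q n) * r ^ 2) • u) a := fun r => by
    have h1 := has_add' Δ (hn0' (-r)) (step r) (step (-r))
    have h2 := has_add' Δ hvv hva hva
    have h3 := has_add' Δ (by rw [neg_left Δ, add_left Δ, hvv]; ring) h1 (neg' _ (by rw [add_left Δ, hvv]; ring) h2)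
    convert h3 using 1
    module
  obtain ⟨s', r', hsr⟩ := two_sq Δ (α := -(4 * k * Q n)) (by
    refine neg_ne_zero.mpr (mul_ne_zero (mul_ne_zero ?_ hk0) B.qn)
    rw [show (4 : F) = 2 * 2 by norm_num]; exact mul_ne_zero Δ.h2 Δ.h2) 1
  have hu1 := has_add' Δ (by rw [smul_left Δ, hua, mul_zero]) (line s') (line r')
  rw [← add_smul, hsr, one_smul] at hu1
  have hu0 : u ≠ 0 := fun e => hk0 (by
    rw [e, zero_right Δ] at hvu
    exact (mul_eq_zero.mp hvu.symm).resolve_left Δ.h2)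
  obtain ⟨h, hh, hhi, hhu⟩ := exists_move Δ hQu hu0 B.qz hz0
  have hz1 := has_conj Δ hK hh hhi hu1
  rw [hhu] at hz1
  have hzha : ⟪z, (h : Matrix ι ι F) *ᵥ a⟫ = 0 := by rw [← hhu, hhi]; exact hua
  obtain ⟨c, hc⟩ : ∃ c, c = (h : Matrix ι ι F) *ᵥ a := ⟨_, rfl⟩
  rw [← hc] at hz1 hzha
  refine ⟨c - ⟪c, z'⟫ • z, ?_, ?_, ?_, has_sub Δ hzha (by rw [smul_right Δ, self_zero Δ B.qz, mul_zero]) hz1
    (hline _)⟩
  · rw [sub_right Δ, smul_right Δ, hzha, self_zero Δ B.qz]; ring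
  · rw [sub_right Δ, smul_right Δ, symm Δ z' z, B.zz, symm Δ z' c]; ring
  · have hQc : Q c = Q m := by
      refine mul_left_cancel₀ Δ.h2 ?_
      rw [← self_eq Δ, hc, hhi, self_eq Δ, ha, sub_eq_add_neg, ← neg_smul, quad_sum Δ, quad_smul Δ, B.qz, B.qz',
        smul_right Δ, B.zz, hk]
      ring
    rw [sub_eq_add_neg, ← neg_smul, quad_sum Δ, quad_smul Δ, B.qz, smul_right Δ, symm Δ c z, hzha, hQc]
    ring

/-- All poles of one singular centre. -/
theorem all_poles (hK : quadSimilarityGroup Q ⊓ specialLinear ι F ≤ K) {z c : ι → F} (hz : Q z = 0) (hz0 : z ≠ 0)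
    (hc0 : c ≠ 0) (hzc : ⟪z, c⟫ = 0) (h : Has Q K z c) : ∀ w, ⟪z, w⟫ = 0 → Has Q K z w := by
  classical
  obtain ⟨z', m₀, n₀, B₀⟩ := exists_basis Δ hz hz0
  have hline := centre_line Δ hK B₀ hc0 hzc h
  obtain ⟨m, hzm, hz'm, hQm, hm⟩ := exists_middle Δ hK B₀ hline
  obtain ⟨n, B⟩ := exists_last Δ hz B₀.qz' B₀.zz hzm hz'm (hQm ▸ B₀.qm)
  have scale : ∀ (p : ι → F) (l : F), ⟪z, p⟫ = 0 → ⟪z', p⟫ = 0 → Has Q K z p → Has Q K z (l • p) := fun p l hp hp' h => by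
    by_cases hl : l = 0
    · rw [hl, zero_smul]; exact has_zero Δ z
    obtain ⟨g, hg, hgi, hgz, hgf⟩ := exists_torus Δ B hl
    have h1 := has_conj Δ hK hg hgi h
    rw [hgz, hgf p hp hp'] at h1
    exact has_shift Δ h1
  obtain ⟨p', hzp, hz'p, hp', hpn⟩ : ∃ p', ⟪z, p'⟫ = 0 ∧ ⟪z', p'⟫ = 0 ∧ Has Q K z p' ∧ ⟪p', n⟫ ≠ 0 := by
    by_cases hs : ∃ s : F, s ≠ 0 ∧ Q m + s ^ 2 * Q n ≠ 0
    · obtain ⟨s, hs0, hs⟩ := hs
      obtain ⟨p, hp⟩ : ∃ p, p = m + s • n := ⟨_, rfl⟩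
      have hQp : Q p = Q m + s ^ 2 * Q n := by rw [hp, quad_sum Δ, quad_smul Δ, smul_right Δ, B.mn]; ring
      have hp1 : ⟪z, p⟫ = 0 := by rw [hp, add_right Δ, smul_right Δ, B.zm, B.zn]; ring
      have hp2 : ⟪z', p⟫ = 0 := by rw [hp, add_right Δ, smul_right Δ, B.z'm, B.z'n]; ring
      obtain ⟨g, hg, hgi, hgv⟩ := exists_refl_two Δ (p := n) B.qn (p' := p) (by rw [hQp]; exact hs)
      have hgz : (g : Matrix ι ι F) *ᵥ z = z := by
        rw [hgv, hp1, mul_zero, zero_smul, sub_zero, B.zn, mul_zero, zero_smul, sub_zero]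
      have hgz' : (g : Matrix ι ι F) *ᵥ z' = z' := by
        rw [hgv, hp2, mul_zero, zero_smul, sub_zero, B.z'n, mul_zero, zero_smul, sub_zero]
      have h1 := has_conj Δ hK hg hgi hm
      rw [hgz] at h1
      refine ⟨_, by rw [← hgz, hgi, hzm], by rw [← hgz', hgi, hz'm], h1, ?_⟩
      rw [hgv]
      rw [hQp]
      simp only [sub_left Δ, smul_left Δ, self_eq Δ n, hp, add_right Δ, add_left Δ, smul_right Δ, B.mn, self_eq Δ m,
        mul_zero, add_zero]
      intro e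
      have hqn := B.qn
      field_simp at e
      refine mul_ne_zero (mul_ne_zero (mul_ne_zero hs0 Δ.h2) Δ.h2) (mul_ne_zero B.qm B.qn) ?_
      linear_combination e
    · push Not at hs
      have hBn : Basis4 Q z z' n m := ⟨B.qz, B.qz', B.zz, B.zn, B.zm, B.z'n, B.z'm, by rw [symm Δ]; exact B.mn,
        B.qn, B.qm, fun x => (B.expand x).trans (by abel)⟩
      obtain ⟨p', hzp, hz'p, hQp, hp⟩ := exists_middle Δ hK hBn hline
      refine ⟨p', hzp, hz'p, hp, fun e => ?_⟩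
      have hp0 : p' = (⟪p', m⟫ / (2 * Q m)) • m := by
        conv_lhs => rw [B.expand p', symm Δ p' z', hz'p, symm Δ p' z, hzp, e]
        simp
      obtain ⟨l, hl⟩ : ∃ l, l = ⟪p', m⟫ / (2 * Q m) := ⟨_, rfl⟩
      rw [← hl] at hp0
      rw [hp0, quad_smul Δ] at hQp
      have h1 := hs 1 one_ne_zero
      have hl0 : l ≠ 0 := fun e' => B.qn (by rw [e'] at hQp; linear_combination -hQp)
      have h2 := hs l hl0
      exact mul_ne_zero Δ.h2 B.qn (by
        have e3 : l ^ 2 = 1 := mul_right_cancel₀ B.qn (by linear_combination h2 - h1)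
        rw [e3] at hQp
        linear_combination h1 - hQp)
  intro w hw
  obtain ⟨l, hl⟩ : ∃ l, l = ⟪w, n⟫ / ⟪p', n⟫ := ⟨_, rfl⟩
  obtain ⟨k, hk⟩ : ∃ k, k = (⟪w, m⟫ - l * ⟪p', m⟫) / (2 * Q m) := ⟨_, rfl⟩
  have he : w = ⟪w, z'⟫ • z + (k • m + l • p') := by
    have ep := B.expand p'
    rw [symm Δ p' z', hz'p, symm Δ p' z, hzp] at ep
    simp only [zero_smul, zero_add] at ep
    conv_lhs => rw [B.expand w, symm Δ w z, hw, zero_smul, add_zero, add_assoc]
    congr 1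
    conv_rhs => rw [ep]
    rw [smul_add, smul_smul, smul_smul, hk, hl, ← add_assoc, ← add_smul]
    congr 1
    · congr 1
      field_simp
      ring
    · congr 1
      field_simp
  rw [he]
  exact has_add Δ (by rw [smul_right Δ, self_zero Δ hz, mul_zero]) (hline _)
    (has_add Δ (by rw [smul_right Δ, hzm, mul_zero]) (scale m k hzm hz'm hm) (scale p' l hzp hz'p hp'))

/-- One transvection with singular centre gives the special linear group. -/
theorem full_of_has (hK : quadSimilarityGroup Q ⊓ specialLinear ι F ≤ K) {z c : ι → F} (hz : Q z = 0) (hz0 : z ≠ 0)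
    (hc0 : c ≠ 0) (hzc : ⟪z, c⟫ = 0) (h : Has Q K z c) : specialLinear ι F ≤ K := by
  classical
  haveI : Nontrivial ι := Fintype.one_lt_card_iff_nontrivial.mp (by rw [Δ.hn]; norm_num)
  have hsing : ∀ x, Q x = 0 → ∀ y, ⟪x, y⟫ = 0 → Has Q K x y := by
    intro x hx y hxy
    by_cases hx0 : x = 0
    · rw [hx0]; exact has_zero' Δ y
    obtain ⟨g, hg, hgi, hgz⟩ := exists_move Δ hz hz0 hx hx0
    obtain ⟨w, rfl⟩ : ∃ w, y = (g : Matrix ι ι F) *ᵥ w :=
      ⟨((g⁻¹ : GL ι F) : Matrix ι ι F) *ᵥ y, (gl_mulVec_inv_cancel g y).symm⟩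
    rw [← hgz, hgi] at hxy
    rw [← hgz]
    exact has_conj Δ hK hg hgi (all_poles Δ hK hz hz0 hc0 hzc h w hxy)
  have haniso : ∀ x y, Q y ≠ 0 → ⟪x, y⟫ = 0 → Has Q K x y := by
    intro x y hy hxy
    by_cases hx0 : x = 0
    · rw [hx0]; exact has_zero' Δ y
    -- a singular vector orthogonal to the pole
    obtain ⟨a, ha, hay⟩ := exists_aniso Δ ![y] (by rw [Δ.hn]; norm_num)
    obtain ⟨b, hb, hba, hby⟩ := exists_aniso_cons Δ ha ![y] (by rw [Δ.hn])
    obtain ⟨d, hd, hd0⟩ := exists_perp Δ ![y, a, b] (![] : Fin 0 → ι → F) (by rw [Δ.hn]; norm_num)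
    have hay' : ⟪a, y⟫ = 0 := hay 0
    have hby' : ⟪b, y⟫ = 0 := hby 0
    have hdy : ⟪d, y⟫ = 0 := hd 0
    have hda : ⟪d, a⟫ = 0 := hd 1
    have hdb : ⟪d, b⟫ = 0 := hd 2
    obtain ⟨e0, he0, he00, he0y⟩ : ∃ e0, Q e0 = 0 ∧ e0 ≠ 0 ∧ ⟪e0, y⟫ = 0 := by
      by_cases hQd : Q d = 0
      · exact ⟨d, hQd, fun e => hd0 (e ▸ zero_mem _), hdy⟩
      obtain ⟨s, r, hsr⟩ := FiniteField.exists_root_sum_quadratic (R := F)
        (f := Polynomial.C (Q a) * Polynomial.X ^ 2)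
        (g := Polynomial.C (Q b) * Polynomial.X ^ 2 + Polynomial.C (Q d))
        (Polynomial.degree_C_mul_X_pow 2 ha)
        (by rw [Polynomial.degree_add_C (by rw [Polynomial.degree_C_mul_X_pow 2 hb]; norm_num),
          Polynomial.degree_C_mul_X_pow 2 hb]; rfl)
        (FiniteField.odd_card_of_char_ne_two fun hc => Δ.h2 (by
          haveI := ringChar.of_eq hc
          exact CharTwo.two_eq_zero))
      simp only [Polynomial.eval_mul, Polynomial.eval_C, Polynomial.eval_pow, Polynomial.eval_X,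
        Polynomial.eval_add] at hsr
      refine ⟨s • a + r • b + d, ?_, fun e => hQd ?_, ?_⟩
      · simp only [quad_sum Δ, quad_smul Δ, add_left Δ, smul_left Δ, smul_right Δ, symm Δ a b, hba, symm Δ a d, hda,
          symm Δ b d, hdb]
        linear_combination hsr
      · have := congrArg (fun w => ⟪w, d⟫) e
        simp only [add_left Δ, smul_left Δ, symm Δ a d, hda, symm Δ b d, hdb, self_eq Δ, zero_left Δ] at this
        exact (mul_eq_zero.mp (by linear_combination this : (2 : F) * Q d = 0)).resolve_left Δ.h2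
      · simp only [add_left Δ, smul_left Δ, hay', hby', hdy]; ring
    obtain ⟨e, he, hey, hex⟩ : ∃ e, Q e = 0 ∧ ⟪e, y⟫ = 0 ∧ ⟪e, x⟫ ≠ 0 := by
      by_cases h0 : ⟪e0, x⟫ = 0
      swap
      · exact ⟨e0, he0, he0y, h0⟩
      have sep : ∀ w, ⟪w, y⟫ = 0 → w ≠ 0 → ∃ p, ⟪p, y⟫ = 0 ∧ ⟪p, w⟫ = 1 := fun w hw hw0 => by
        obtain ⟨p, hp, hp1⟩ := exists_sep Δ (s := ![y]) (a := w) fun hm => by
          obtain ⟨k, rfl⟩ := mem_span1 Δ hm
          rw [smul_left Δ, self_eq Δ] at hw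
          rcases mul_eq_zero.mp hw with hk | hk
          · exact hw0 (by rw [hk, zero_smul])
          · exact mul_ne_zero Δ.h2 hy hk
        exact ⟨p, hp 0, hp1⟩
      obtain ⟨w1, hw1y, hw1⟩ := sep x hxy hx0
      obtain ⟨w2, hw2y, hw2⟩ := sep e0 he0y he00
      obtain ⟨w, hwy, hwx, hwe⟩ : ∃ w, ⟪w, y⟫ = 0 ∧ ⟪w, x⟫ ≠ 0 ∧ ⟪w, e0⟫ ≠ 0 := by
        by_cases h1 : ⟪w1, e0⟫ = 0
        · by_cases h2 : ⟪w2, x⟫ = 0
          · exact ⟨w1 + w2, by rw [add_left Δ, hw1y, hw2y, add_zero], by rw [add_left Δ, hw1, h2]; simp,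
              by rw [add_left Δ, h1, hw2]; simp⟩
          · exact ⟨w2, hw2y, h2, by rw [hw2]; exact one_ne_zero⟩
        · exact ⟨w1, hw1y, by rw [hw1]; exact one_ne_zero, h1⟩
      refine ⟨w + (-Q w / ⟪w, e0⟫) • e0, ?_, ?_, ?_⟩
      · rw [quad_sum Δ, quad_smul Δ, he0, smul_right Δ, div_mul_cancel₀ _ hwe]; ring
      · rw [add_left Δ, smul_left Δ, hwy, he0y]; ring
      · rw [add_left Δ, smul_left Δ, h0, mul_zero, add_zero]; exact hwx
    obtain ⟨r, hr⟩ : ∃ r, r = Q x / ⟪e, x⟫ := ⟨_, rfl⟩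
    have h1 := hsing (x - r • e) (by
      rw [sub_eq_add_neg, ← neg_smul, quad_sum Δ, quad_smul Δ, he, smul_right Δ, symm Δ x e, hr, neg_mul,
        div_mul_cancel₀ _ hex]; ring) y (by rw [sub_left Δ, smul_left Δ, hxy, hey]; ring)
    have h2 := hsing (r • e) (by rw [quad_smul Δ, he, mul_zero]) y (by rw [smul_left Δ, hey, mul_zero])
    have h3 := has_add' Δ (by rw [smul_left Δ, hey, mul_zero]) h1 h2
    rwa [sub_add_cancel] at h3
  have hall : ∀ x y, ⟪x, y⟫ = 0 → Has Q K x y := by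
    intro x y hxy
    by_cases hy : Q y = 0
    swap
    · exact haniso x y hy hxy
    by_cases hy0 : y = 0
    · rw [hy0]; exact has_zero Δ x
    by_cases hx : Q x = 0
    · exact hsing x hx y hxy
    obtain ⟨y', m, n, B⟩ := exists_basis Δ hy hy0
    obtain ⟨p, hp⟩ : ∃ p, p = ⟪x, n⟫ • m - ⟪x, m⟫ • n := ⟨_, rfl⟩
    have hxp : ⟪x, p⟫ = 0 := by rw [hp, sub_right Δ, smul_right Δ, smul_right Δ]; ring
    have hyp : ⟪y, p⟫ = 0 := by rw [hp, sub_right Δ, smul_right Δ, smul_right Δ, B.zm, B.zn]; ring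
    have hQp : Q p ≠ 0 := by
      have ex := B.expand x
      rw [hxy] at ex
      simp only [zero_smul, add_zero] at ex
      have hQx : Q x = ⟪x, m⟫ ^ 2 / (4 * Q m) + ⟪x, n⟫ ^ 2 / (4 * Q n) := by
        conv_lhs => rw [ex]
        simp only [quad_sum Δ, quad_smul Δ, B.qz, smul_left Δ, smul_right Δ, add_left Δ, B.zm, B.zn, B.mn]
        have := B.qm; have := B.qn; have := Δ.h2
        have h4 : (4 : F) ≠ 0 := by rw [show (4 : F) = 2 * 2 by norm_num]; exact mul_ne_zero Δ.h2 Δ.h2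
        field_simp
        ring
      intro e
      refine hx ?_
      rw [hp, sub_eq_add_neg, ← neg_smul, quad_sum Δ, quad_smul Δ, quad_smul Δ, smul_left Δ, smul_right Δ, B.mn] at e
      have h4 : (4 : F) ≠ 0 := by rw [show (4 : F) = 2 * 2 by norm_num]; exact mul_ne_zero Δ.h2 Δ.h2
      rw [hQx, div_add_div _ _ (mul_ne_zero h4 B.qm) (mul_ne_zero h4 B.qn),
        div_eq_zero_iff]
      left
      linear_combination 4 * e
    have h1 := haniso x (y - p) (by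
      rw [sub_eq_add_neg, ← neg_one_smul F p, quad_sum Δ, quad_smul Δ, smul_right Δ, hy, hyp]
      intro e
      exact hQp (by linear_combination e)) (by rw [sub_right Δ, hxy, hxp, sub_zero])
    have h2 := haniso x p hQp hxp
    have h3 := has_add Δ (by rw [sub_right Δ, hxy, hxp, sub_zero]) h1 h2
    rwa [sub_add_cancel] at h3
  rw [specialLinear_le_iff]
  intro i j hij c
  obtain ⟨r, hr⟩ := exists_rep Δ (c • LinearMap.proj j)
  obtain ⟨t, ht, htv⟩ := hall (Pi.single i 1) r (by simp [hr, hij.symm])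
  have e : transGL hij c = t := gl_ext_mulVec fun x => by
    rw [htv, transGL_mulVec, hr]
    simp [← Pi.single_smul]
  rw [e]
  exact ht

end Cfsg.Agent.Classical.OSimFour
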