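/-
The similitudes of a four-dimensional quadratic space in odd characteristic are maximal in the special linear group.
-/
import Cfsg.Agent.Lib.Classical.OSimFour.Spread

set_option autoImplicit false
set_option linter.unusedSectionVars false

namespace Cfsg.Agent.Classical.OSimFour

open Matrix Cfsg.Geo
open Cfsg.Agent.Classical

universe u

variable {ι : Type} [Fintype ι] [DecidableEq ι] {F : Type u} [Field F] [Fintype F] {Q : (ι → F) → F}
  {K : Subgroup (GL ι F)}

/-- The polar form. -/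
local notation "⟪" x ", " y "⟫" => QuadraticMap.polar Q x y

variable (Δ : Data Q)

include Δ

/-- There is a singular vector. -/
theorem exists_singular : ∃ z, Q z = 0 ∧ z ≠ 0 := by
  obtain ⟨a, ha, -⟩ := exists_aniso Δ (![] : Fin 0 → ι → F) (by rw [Δ.hn]; norm_num)
  obtain ⟨b, hb, hab⟩ := exists_aniso Δ ![a] (by rw [Δ.hn]; norm_num)
  obtain ⟨d, hd, hd0'⟩ := exists_perp Δ ![a, b] (![] : Fin 0 → ι → F) (by rw [Δ.hn]; norm_num)
  have hd0 : d ≠ 0 := fun e => hd0' (e ▸ zero_mem _)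
  have hda : ⟪d, a⟫ = 0 := hd 0
  have hdb : ⟪d, b⟫ = 0 := hd 1
  have hba : ⟪b, a⟫ = 0 := hab 0
  by_cases hQd : Q d = 0
  · exact ⟨d, hQd, hd0⟩
  obtain ⟨s, r, hsr⟩ := FiniteField.exists_root_sum_quadratic (R := F)
    (f := Polynomial.C (Q a) * Polynomial.X ^ 2)
    (g := Polynomial.C (Q b) * Polynomial.X ^ 2 + Polynomial.C (Q d))
    (Polynomial.degree_C_mul_X_pow 2 ha)
    (by rw [Polynomial.degree_add_C (by rw [Polynomial.degree_C_mul_X_pow 2 hb]; norm_num),
      Polynomial.degree_C_mul_X_pow 2 hb]; rfl)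
    (FiniteField.odd_card_of_char_ne_two fun hc => Δ.h2 (by
      haveI := ringChar.of_eq hc
      exact CharTwo.two_eq_zero))
  simp only [Polynomial.eval_mul, Polynomial.eval_C, Polynomial.eval_pow, Polynomial.eval_X,
    Polynomial.eval_add] at hsr
  refine ⟨s • a + r • b + d, ?_, fun e => hQd ?_⟩
  · simp only [quad_sum Δ, quad_smul Δ, add_left Δ, smul_left Δ, smul_right Δ, symm Δ a b, hba, symm Δ a d, hda,
      symm Δ b d, hdb]
    linear_combination hsr
  · have := congrArg (fun w => ⟪w, d⟫) e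
    simp only [add_left Δ, smul_left Δ, symm Δ a d, hda, symm Δ b d, hdb, self_eq Δ, zero_left Δ] at this
    exact (mul_eq_zero.mp (by linear_combination this : (2 : F) * Q d = 0)).resolve_left Δ.h2

/-- An element outside the similarities keeps no singular vector singular, unless we reach everything. -/
theorem le_or_moves (hK : quadSimilarityGroup Q ⊓ specialLinear ι F ≤ K) (hKS : K ≤ specialLinear ι F) :
    specialLinear ι F ≤ K ∨ ∀ g ∈ K, ∀ v, Q v = 0 → v ≠ 0 → Q ((g : Matrix ι ι F) *ᵥ v) = 0 →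
      g ∈ quadSimilarityGroup Q ⊓ specialLinear ι F := by
  by_cases hfix : ∀ g ∈ K, ∀ v, Q v = 0 → v ≠ 0 → (g : Matrix ι ι F) *ᵥ v = v → g ∈ quadSimilarityGroup Q
  · refine Or.inr fun g hg v hv hv0 hgv => ⟨?_, hKS hg⟩
    obtain ⟨h, hh, -, hhv⟩ := exists_move Δ hgv (fun e => hv0 (gl_mulVec_injective g (by simpa using e))) hv hv0
    have h1 := hfix (h * g) (mul_mem (hK hh) hg) v hv hv0 (by rw [gl_mul_mulVec, hhv])
    have h2 := mul_mem ((quadSimilarityGroup Q).inv_mem hh.1) h1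
    rwa [inv_mul_cancel_left] at h2
  · push Not at hfix
    obtain ⟨g, hg, v, hv, hv0, hgv, hgn⟩ := hfix
    obtain ⟨c, hc0, hvc, hc⟩ := exists_has_of_fix Δ hK hKS hv hv0 hg one_ne_zero (by rw [one_smul, hgv]) hgn
    exact Or.inl (full_of_has Δ hK hv hv0 hc0 hvc hc)

/-- Two conjugated Eichler elements in the same coset. -/
theorem quad_eq_zero_of_conj (hK : quadSimilarityGroup Q ⊓ specialLinear ι F ≤ K)
    (hmov : ∀ g ∈ K, ∀ v, Q v = 0 → v ≠ 0 → Q ((g : Matrix ι ι F) *ᵥ v) = 0 →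
      g ∈ quadSimilarityGroup Q ⊓ specialLinear ι F)
    {z d : ι → F} (hz : Q z = 0) (hz0 : z ≠ 0) (hzd : ⟪z, d⟫ = 0) {g u : GL ι F} (hg : g ∈ K)
    (hgn : g ∉ quadSimilarityGroup Q ⊓ specialLinear ι F)
    (hu : ∀ x, (u : Matrix ι ι F) *ᵥ x = x + ⟪x, z⟫ • d - (⟪x, d⟫ + Q d * ⟪x, z⟫) • z)
    (hh : g⁻¹ * u * g ∈ quadSimilarityGroup Q) : Q d = 0 := by
  obtain ⟨μ, hμ⟩ := hh
  obtain ⟨h, hhd⟩ : ∃ h, h = g⁻¹ * u * g := ⟨_, rfl⟩
  rw [← hhd] at hμ
  obtain ⟨z0, hz0d⟩ : ∃ z0, z0 = ((g⁻¹ : GL ι F) : Matrix ι ι F) *ᵥ z := ⟨_, rfl⟩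
  obtain ⟨d0, hd0d⟩ : ∃ d0, d0 = ((g⁻¹ : GL ι F) : Matrix ι ι F) *ᵥ d := ⟨_, rfl⟩
  have hgz : (g : Matrix ι ι F) *ᵥ z0 = z := by rw [hz0d, gl_mulVec_inv_cancel]
  have hgd : (g : Matrix ι ι F) *ᵥ d0 = d := by rw [hd0d, gl_mulVec_inv_cancel]
  have hgh : ∀ x, (g : Matrix ι ι F) *ᵥ ((h : Matrix ι ι F) *ᵥ x) = (u : Matrix ι ι F) *ᵥ ((g : Matrix ι ι F) *ᵥ x) :=
    fun x => by rw [← gl_mul_mulVec, hhd, show g * (g⁻¹ * u * g) = u * g by group, gl_mul_mulVec]
  have hhz : (h : Matrix ι ι F) *ᵥ z0 = z0 := by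
    refine gl_mulVec_injective g ?_
    dsimp only
    rw [hgh, hgz, hu, self_zero Δ hz, hzd]
    simp
  have hhd' : (h : Matrix ι ι F) *ᵥ d0 = d0 + (-(2 * Q d)) • z0 := by
    refine gl_mulVec_injective g ?_
    dsimp only
    rw [hgh, hgd, Matrix.mulVec_add, Matrix.mulVec_smul, hgz, hgd, hu, symm Δ d z, hzd, self_eq Δ]
    module
  have hQz0 : Q z0 ≠ 0 := fun e => hgn
    (hmov g hg z0 e (fun e' => hz0 (by rw [← hgz, e', Matrix.mulVec_zero])) (by rw [hgz, hz]))
  have hμ1 : (μ : F) = 1 := by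
    have e := hμ z0
    rw [hhz] at e
    exact (mul_eq_right₀ hQz0).mp e.symm
  have hpol : ⟪(h : Matrix ι ι F) *ᵥ d0, (h : Matrix ι ι F) *ᵥ z0⟫ = ⟪d0, z0⟫ := by
    simp only [QuadraticMap.polar, ← Matrix.mulVec_add, hμ, hμ1, one_mul]
  rw [hhz, hhd', add_left Δ, smul_left Δ, self_eq Δ] at hpol
  have : (2 : F) * Q d * (2 * Q z0) = 0 := by linear_combination -hpol
  exact (mul_eq_zero.mp ((mul_eq_zero.mp this).resolve_right (mul_ne_zero Δ.h2 hQz0))).resolve_left Δ.h2

/-- A family of singular vectors indexed by the isotropic points. -/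
theorem exists_family {z z' m n : ι → F} (B : Basis4 Q z z' m n) :
    ∃ f : Fˣ × Option (F × F) → ι → F, Function.Injective f ∧
      (∀ e, Q (f e) = 0 ∧ f e ≠ 0 ∧ (⟪f e, z⟫ ≠ 0 ∨ ∃ c : F, f e = c • z)) := by
  obtain ⟨hz0, -⟩ := B.ne Δ
  obtain ⟨P, hP⟩ : ∃ P : F × F → ι → F, P = fun ab =>
      z' + (ab.1 • m + ab.2 • n) + (-Q (ab.1 • m + ab.2 • n)) • z := ⟨_, rfl⟩
  have hzP : ∀ ab, ⟪P ab, z⟫ = 1 := fun ab => by
    simp only [hP, add_left Δ, smul_left Δ, self_zero Δ B.qz, symm Δ z' z, B.zz, symm Δ m z, B.zm, symm Δ n z, B.zn]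
    ring
  have hmP : ∀ ab, ⟪P ab, m⟫ = ab.1 * (2 * Q m) := fun ab => by
    simp only [hP, add_left Δ, smul_left Δ, B.z'm, B.zm, symm Δ n m, B.mn, self_eq Δ]
    ring
  have hnP : ∀ ab, ⟪P ab, n⟫ = ab.2 * (2 * Q n) := fun ab => by
    simp only [hP, add_left Δ, smul_left Δ, B.z'n, B.zn, B.mn, self_eq Δ]
    ring
  have hQP : ∀ ab, Q (P ab) = 0 := fun ab => by
    simp only [hP, quad_sum Δ, quad_smul Δ, add_left Δ, smul_left Δ, smul_right Δ, add_right Δ, B.qz, B.qz',
      symm Δ z' z, B.zz, symm Δ m z, B.zm, symm Δ n z, B.zn, B.z'm, B.z'n, B.mn]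
    ring
  refine ⟨fun e => (e.1 : F) • (match e.2 with | none => z | some ab => P ab), ?_, ?_⟩
  · rintro ⟨c, _ | ab⟩ ⟨c', _ | ab'⟩ e
    · exact Prod.ext (Units.ext (smul_left_injective F hz0 e)) rfl
    · exfalso
      have := congrArg (fun w => ⟪w, z⟫) e
      simp only [smul_left Δ, self_zero Δ B.qz, hzP, mul_zero, mul_one] at this
      exact c'.ne_zero this.symm
    · exfalso
      have := congrArg (fun w => ⟪w, z⟫) e
      simp only [smul_left Δ, self_zero Δ B.qz, hzP, mul_zero, mul_one] at this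
      exact c.ne_zero this
    · have h1 := congrArg (fun w => ⟪w, z⟫) e
      simp only [smul_left Δ, hzP, mul_one] at h1
      have h2 := congrArg (fun w => ⟪w, m⟫) e
      simp only [smul_left Δ, hmP, h1] at h2
      have h3 := congrArg (fun w => ⟪w, n⟫) e
      simp only [smul_left Δ, hnP, h1] at h3
      obtain rfl : c = c' := Units.ext h1
      refine Prod.ext rfl (congrArg some (Prod.ext ?_ ?_))
      · exact mul_right_cancel₀ (mul_ne_zero Δ.h2 B.qm) (mul_left_cancel₀ c.ne_zero h2)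
      · exact mul_right_cancel₀ (mul_ne_zero Δ.h2 B.qn) (mul_left_cancel₀ c.ne_zero h3)
  · rintro ⟨c, _ | ab⟩
    · exact ⟨by simp only [quad_smul Δ, B.qz, mul_zero], smul_ne_zero c.ne_zero hz0, Or.inr ⟨_, rfl⟩⟩
    · refine ⟨by simp only [quad_smul Δ, hQP, mul_zero], smul_ne_zero c.ne_zero fun e => ?_, Or.inl ?_⟩
      · exact one_ne_zero (((hzP ab).symm.trans (congrArg (fun w => ⟪w, z⟫) e)).trans (zero_left Δ z))
      · simp only [smul_left Δ, hzP, mul_one]; exact c.ne_zero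

/-- Counting: the similitudes are not properly contained in a smaller subgroup than the whole. -/
theorem eq_or_full (hK : quadSimilarityGroup Q ⊓ specialLinear ι F ≤ K) (hKS : K ≤ specialLinear ι F) :
    K = quadSimilarityGroup Q ⊓ specialLinear ι F ∨ K = specialLinear ι F := by
  classical
  rcases le_or_moves Δ hK hKS with hfull | hmov
  · exact Or.inr (le_antisymm hKS hfull)
  by_contra hcon
  push Not at hcon
  obtain ⟨g, hg, hgn⟩ : ∃ g ∈ K, g ∉ quadSimilarityGroup Q ⊓ specialLinear ι F := by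
    by_contra h
    push Not at h
    exact hcon.1 (le_antisymm h hK)
  obtain ⟨H, hH⟩ : ∃ H : Subgroup K, H = (quadSimilarityGroup Q ⊓ specialLinear ι F).subgroupOf K := ⟨_, rfl⟩
  have hmem : ∀ x : K, x ∈ H ↔ (x : GL ι F) ∈ quadSimilarityGroup Q ⊓ specialLinear ι F := fun x => by
    rw [hH, Subgroup.mem_subgroupOf]
  obtain ⟨z, hz, hz0⟩ := exists_singular Δ
  obtain ⟨z', m, n, B⟩ := exists_basis Δ hz hz0
  -- cosets times singular vectors
  have hinj : ∀ {E : Type u} (f : E → ι → F), Function.Injective f → (∀ e, Q (f e) = 0 ∧ f e ≠ 0) →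
      Nat.card (K ⧸ H) * Nat.card E < Fintype.card F ^ 4 := by
    intro E f hf hfs
    have hi : Function.Injective (fun o : Option ((K ⧸ H) × E) => match o with
        | none => (0 : ι → F)
        | some p => ((p.1.out : GL ι F) : Matrix ι ι F) *ᵥ f p.2) := by
      rintro (_ | ⟨c, e⟩) (_ | ⟨c', e'⟩) h
      · rfl
      · exact absurd (gl_mulVec_injective (c'.out : GL ι F) (by simpa using h.symm)) (hfs e').2
      · exact absurd (gl_mulVec_injective (c.out : GL ι F) (by simpa using h)) (hfs e).2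
      · have h' : (((c'.out⁻¹ * c.out : K) : GL ι F) : Matrix ι ι F) *ᵥ f e = f e' := by
          rw [Subgroup.coe_mul, Subgroup.coe_inv, gl_mul_mulVec]
          exact (congrArg _ h).trans (gl_inv_mulVec_cancel _ _)
        have hm := hmov _ (c'.out⁻¹ * c.out).2 (f e) (hfs e).1 (hfs e).2 (by rw [h']; exact (hfs e').1)
        have hcc : c' = c := by
          rw [← QuotientGroup.out_eq' c', ← QuotientGroup.out_eq' c, QuotientGroup.eq, hmem]
          exact hm
        subst hcc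
        exact congrArg some (Prod.ext rfl (hf (gl_mulVec_injective (c'.out : GL ι F) h)))
    haveI : Finite E := Finite.of_injective f hf
    have h1 := Nat.card_le_card_of_injective _ hi
    rw [Finite.card_option, Nat.card_prod, Nat.card_fun, Nat.card_eq_fintype_card (α := ι), Δ.hn,
      Nat.card_eq_fintype_card (α := F)] at h1
    omega
  have hq3 : 3 ≤ Fintype.card F := by
    have h1 := Fintype.one_lt_card (α := F)
    have h2 : Fintype.card F ≠ 2 := fun e => Δ.h2 (by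
      have := FiniteField.cast_card_eq_zero F
      rw [e] at this
      exact_mod_cast this)
    omega
  -- cosets from the Eichler elements
  have hu : ∀ b, ⟪z, b⟫ = 0 → ∃ u : K, ∀ x, ((u : GL ι F) : Matrix ι ι F) *ᵥ x =
      x + ⟪x, z⟫ • b - (⟪x, b⟫ + Q b * ⟪x, z⟫) • z := fun b hb => by
    obtain ⟨u, hu, hux, -⟩ := exists_eichler_one Δ hz hb
    exact ⟨⟨u, hK hu⟩, hux⟩
  have hzab : ∀ ab : F × F, ⟪z, ab.1 • m + ab.2 • n⟫ = 0 := fun ab => by
    rw [add_right Δ, smul_right Δ, smul_right Δ, B.zm, B.zn]; ring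
  choose u hu' using fun ab : F × F => hu _ (hzab ab)
  have hcoset : ∀ ab ab' : F × F, (QuotientGroup.mk (u ab * ⟨g, hg⟩) : K ⧸ H) = QuotientGroup.mk (u ab' * ⟨g, hg⟩) →
      (ab'.1 - ab.1) ^ 2 * Q m + (ab'.2 - ab.2) ^ 2 * Q n = 0 := by
    intro ab ab' h
    obtain ⟨d, hd⟩ : ∃ d : F × F, d = (ab'.1 - ab.1, ab'.2 - ab.2) := ⟨_, rfl⟩
    have hud : (u ab : GL ι F) * (u d : GL ι F) = (u ab' : GL ι F) := gl_ext_mulVec fun x => by
      rw [gl_mul_mulVec, hu', hu', hu']
      simp only [hd, add_left Δ, sub_left Δ, add_right Δ, smul_left Δ, smul_right Δ, self_zero Δ hz, B.zm, B.zn,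
        quad_sum Δ, quad_smul Δ, symm Δ m z, symm Δ n z, symm Δ n m, B.mn, self_eq Δ]
      module
    rw [QuotientGroup.eq, hmem] at h
    have e : ((((u ab * ⟨g, hg⟩)⁻¹ * (u ab' * ⟨g, hg⟩) : K)) : GL ι F) = g⁻¹ * (u d : GL ι F) * g := by
      simp only [Subgroup.coe_mul, Subgroup.coe_inv, ← hud]
      group
    rw [e] at h
    have := quad_eq_zero_of_conj Δ hK hmov hz hz0 (hzab d) hg hgn (hu' d) h.1
    simpa [hd, quad_sum Δ, quad_smul Δ, smul_left Δ, smul_right Δ, B.mn] using this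
  obtain ⟨f, hf, hfs⟩ := exists_family Δ B
  have hE : Nat.card (Fˣ × Option (F × F)) = (Fintype.card F - 1) * (Fintype.card F ^ 2 + 1) := by
    rw [Nat.card_prod, Nat.card_units, Finite.card_option, Nat.card_prod, Nat.card_eq_fintype_card (α := F), sq]
  obtain ⟨r, hr⟩ : ∃ r, Fintype.card F = r + 1 := ⟨_, (Nat.succ_pred_eq_of_pos Fintype.card_pos).symm⟩
  by_cases hplus : ∃ s : F, s ^ 2 * Q m + Q n = 0
  · obtain ⟨s, hs⟩ := hplus
    obtain ⟨x, hx⟩ : ∃ x, x = s • m + n := ⟨_, rfl⟩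
    have hQx : Q x = 0 := by rw [hx, quad_sum Δ, quad_smul Δ, smul_left Δ, B.mn]; linear_combination hs
    have hx0 : x ≠ 0 := fun e => by
      have h1 := congrArg (fun w => ⟪w, n⟫) e
      simp only [hx, add_left Δ, smul_left Δ, B.mn, self_eq Δ, zero_left Δ, mul_zero, zero_add] at h1
      exact mul_ne_zero Δ.h2 B.qn h1
    have hnew : ∀ e, f e ≠ x := fun e h => by
      rcases (hfs e).2.2 with h1 | ⟨c, h1⟩
      · apply h1
        rw [h, hx, add_left Δ, smul_left Δ, symm Δ m z, B.zm, symm Δ n z, B.zn]; ring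
      · rw [h] at h1
        have h2 := congrArg (fun w => ⟪w, n⟫) h1
        simp only [hx, add_left Δ, smul_left Δ, B.mn, B.zn, self_eq Δ, mul_zero, zero_add] at h2
        exact mul_ne_zero Δ.h2 B.qn h2
    have h1 := hinj (fun o : Option (Fˣ × Option (F × F)) => o.elim x f) (by
      rintro (_ | e) (_ | e') h
      · rfl
      · exact absurd h.symm (hnew e')
      · exact absurd h (hnew e)
      · exact congrArg some (hf h)) (by
      rintro (_ | e)
      · exact ⟨hQx, hx0⟩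
      · exact ⟨(hfs e).1, (hfs e).2.1⟩)
    have h2 : Fintype.card F + 1 ≤ Nat.card (K ⧸ H) := by
      refine le_of_eq_of_le ?_ (Nat.card_le_card_of_injective
        (fun o : Option F => o.elim (QuotientGroup.mk 1) fun s => QuotientGroup.mk (u (s, 0) * ⟨g, hg⟩)) ?_)
      · rw [Finite.card_option, Nat.card_eq_fintype_card]
      have hne1 : ∀ s : F, (QuotientGroup.mk 1 : K ⧸ H) ≠ QuotientGroup.mk (u (s, 0) * ⟨g, hg⟩) := fun s h => by
        rw [QuotientGroup.eq, inv_one, one_mul, hmem] at h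
        obtain ⟨e, he, hev, -⟩ := exists_eichler_one Δ hz (hzab (s, 0))
        have hue : (u (s, 0) : GL ι F) = e := gl_ext_mulVec fun x => by rw [hu', hev]
        apply hgn
        have h' : e * g ∈ quadSimilarityGroup Q ⊓ specialLinear ι F := by
          simpa [← hue] using h
        have := mul_mem (inv_mem he) h'
        rwa [inv_mul_cancel_left] at this
      rintro (_ | s) (_ | t) h
      · rfl
      · exact absurd h (hne1 t)
      · exact absurd h.symm (hne1 s)
      · have := hcoset (s, 0) (t, 0) h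
        simp only [sub_self, zero_pow two_ne_zero, zero_mul, add_zero] at this
        exact congrArg some (sub_eq_zero.mp (pow_eq_zero_iff two_ne_zero |>.mp
          ((mul_eq_zero.mp this).resolve_right B.qm))).symm
    rw [Finite.card_option, hE, hr] at h1
    rw [hr] at h2
    simp only [Nat.add_sub_cancel] at h1
    have h3 := Nat.mul_le_mul_right (r * ((r + 1) ^ 2 + 1) + 1) h2
    nlinarith
  · push Not at hplus
    have h1 := hinj f hf fun e => ⟨(hfs e).1, (hfs e).2.1⟩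
    have h2 : Fintype.card F ^ 2 ≤ Nat.card (K ⧸ H) := by
      refine le_of_eq_of_le ?_ (Nat.card_le_card_of_injective
        (fun ab : F × F => (QuotientGroup.mk (u ab * ⟨g, hg⟩) : K ⧸ H)) ?_)
      · rw [Nat.card_prod, Nat.card_eq_fintype_card, sq]
      intro ab ab' h
      have := hcoset ab ab' h
      by_cases hb : ab'.2 - ab.2 = 0
      · rw [hb, zero_pow two_ne_zero, zero_mul, add_zero] at this
        exact Prod.ext (sub_eq_zero.mp (pow_eq_zero_iff two_ne_zero |>.mp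
          ((mul_eq_zero.mp this).resolve_right B.qm))).symm (sub_eq_zero.mp hb).symm
      · refine absurd ?_ (hplus ((ab'.1 - ab.1) / (ab'.2 - ab.2)))
        field_simp
        linear_combination this
    rw [hE, hr] at h1
    rw [hr] at h2 hq3
    simp only [Nat.add_sub_cancel] at h1
    have h3 := Nat.mul_le_mul_right (r * ((r + 1) ^ 2 + 1)) h2
    have h4 : (r + 1) ^ 4 ≤ (r + 1) ^ 2 * (r * ((r + 1) ^ 2 + 1)) := by
      rw [show (r + 1) ^ 4 = (r + 1) ^ 2 * (r + 1) ^ 2 by ring]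
      exact Nat.mul_le_mul_left _ (by nlinarith)
    omega

/-- The similitude group of a four-dimensional form in odd characteristic is maximal. -/
theorem isMaximal : IsMaximalIn (specialLinear ι F) (quadSimilarityGroup Q ⊓ specialLinear ι F) := by
  classical
  refine ⟨lt_of_le_of_ne inf_le_right fun e => ?_, fun M hM hMS => eq_or_full Δ hM hMS⟩
  obtain ⟨z, hz, hz0⟩ := exists_singular Δ
  obtain ⟨z', m, n, B⟩ := exists_basis Δ hz hz0
  let φ : ι → F := fun i => ⟪Pi.single i 1, m⟫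
  have hφ : ∀ x, φ ⬝ᵥ x = ⟪x, m⟫ := fun x => by
    let L : (ι → F) →ₗ[F] F :=
      { toFun := fun y => ⟪y, m⟫
        map_add' := fun y w => add_left Δ y w m
        map_smul' := fun c y => by rw [smul_left Δ, RingHom.id_apply, smul_eq_mul] }
    show φ ⬝ᵥ x = L x
    conv_rhs => rw [pi_eq_sum_univ' x]
    rw [map_sum]
    simp only [map_smul, dotProduct, φ, L, LinearMap.coe_mk, AddHom.coe_mk, smul_eq_mul]
    simp [Pi.single_apply, mul_comm]
  obtain ⟨t, ht, htv⟩ := SubMaxSL.exists_tv (v := z) (φ := φ) (by rw [hφ, B.zm])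
  rw [← e] at ht
  obtain ⟨μ, hμ⟩ := ht.1
  have h1 := hμ m
  rw [htv, hφ, quad_sum Δ, quad_smul Δ, hz, smul_right Δ, symm Δ m z, B.zm] at h1
  have hμ1 : (μ : F) = 1 := by
    refine mul_right_cancel₀ B.qm ?_
    linear_combination -h1
  have h2 := hμ (z' + m)
  rw [htv, hφ, quad_sum Δ, quad_smul Δ, hz, smul_right Δ, add_left Δ, add_left Δ, B.z'm, self_eq Δ, symm Δ z' z, B.zz,
    symm Δ m z, B.zm, hμ1] at h2
  refine mul_ne_zero Δ.h2 B.qm ?_
  linear_combination h2

end Cfsg.Agent.Classical.OSimFour
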